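import Cfsg.Agent.Lib.Sporadic.J4Index.Perm
import Cfsg.Agent.Lib.Sporadic.J4M24.Main

/-!
# The subgroup M₂₄ of the presented fourth Janko group as permutation numbers
-/

set_option autoImplicit false
set_option maxRecDepth 100000

namespace CfsgLib.Sporadic.CosetCert.J4Index

open OutCert Cfsg Cfsg.Spor J4M24 CfsgLib.SmallGroups.Golay CfsgLib.SmallGroups.M24Group
  CfsgLib.Sporadic.MathieuMultiplier

/-- An element of the pairs with trivial matrix is trivial. -/
theorem pairs_rep (z : pairs) (h : J4Rep.rep (z : J4P × M24).1 = 1) : (z : J4P × M24).2 = 1 := by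
  have : IsSimpleGroup M24 := CfsgLib.SmallGroups.MathieuSimple.isSimple_M24
  let π : pairs →* M24 := (MonoidHom.snd J4P M24).comp pairs.subtype
  let e := MulEquiv.ofBijective π pairs_bij
  let ψ : M24 →* J4Rep.M112ˣ := (J4Rep.rep.comp ((MonoidHom.fst J4P M24).comp pairs.subtype)).comp e.symm.toMonoidHom
  have hk : ψ.ker ≠ ⊤ := by
    intro hk
    have hx : e ⟨sBoth 0, sBoth_mem 0⟩ ∈ ψ.ker := by rw [hk]; exact Subgroup.mem_top _
    rw [MonoidHom.mem_ker] at hx
    apply J4Rep.rep_x_ne_one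
    simpa [ψ, sBoth] using hx
  have hb := (Subgroup.Normal.eq_bot_or_eq_top (MonoidHom.normal_ker ψ)).resolve_right hk
  have hz : e z ∈ ψ.ker := MonoidHom.mem_ker.2 (by simpa [ψ] using h)
  rw [hb, Subgroup.mem_bot] at hz
  exact hz

/-- The number `n` is the permutation of `a`. -/
def PR (n : ℕ) (a : J4P) : Prop :=
  ∃ g : M24, (a, g) ∈ pairs ∧ ∀ i < 24, lk 5 n i = idx ((g : Equiv.Perm GolayPt).symm (pt i))

/-- The number is the permutation of some element. -/
def Good (n : ℕ) : Prop := ∃ a, PR n a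

open Classical in
/-- The element with a permutation. -/
noncomputable def el (n : ℕ) : J4P := if h : Good n then h.choose else 1

theorem PR.unique {n : ℕ} {a b : J4P} (ha : PR n a) (hb : PR n b) : a = b := by
  obtain ⟨g, hg, e⟩ := ha
  obtain ⟨h, hh, e'⟩ := hb
  have hgh : g = h := by
    refine Subtype.ext (Equiv.symm_bijective.injective (Equiv.ext fun p => idx_injective ?_))
    have := (e (idx p) (idx_lt p)).symm.trans (e' (idx p) (idx_lt p))
    rwa [pt_idx] at this
  subst hgh
  exact congrArg (fun z : pairs => (z : J4P × M24).1)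
    (pairs_bij.1 (a₁ := (⟨(a, g), hg⟩ : pairs)) (a₂ := ⟨(b, g), hh⟩) rfl)

theorem PR.el_eq {n : ℕ} {a : J4P} (h : PR n a) : el n = a := by
  have hg : Good n := ⟨a, h⟩
  rw [el, dif_pos hg]
  exact hg.choose_spec.unique h

theorem Good.pr {n : ℕ} (h : Good n) : PR n (el n) := by
  rw [el, dif_pos h]
  exact h.choose_spec

theorem PR.lt {n : ℕ} {a : J4P} (h : PR n a) {i : ℕ} (hi : i < 24) : lk 5 n i < 24 := by
  obtain ⟨g, -, e⟩ := h
  rw [e i hi]
  exact idx_lt _

theorem PR.mul {m n : ℕ} {a b : J4P} (ha : PR m a) (hb : PR n b) : PR (pm m n) (a * b) := by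
  obtain ⟨g, hg, e⟩ := id ha
  obtain ⟨h, hh, e'⟩ := hb
  refine ⟨g * h, mul_mem hg hh, fun i hi => ?_⟩
  rw [lk_pm _ _ hi, e' _ (ha.lt hi), e i hi, pt_idx]
  rfl

theorem PR.one : PR idP 1 := ⟨1, one_mem pairs, fun i hi => by rw [lk_id hi]; exact (idx_pt hi).symm⟩

theorem el_id : el idP = 1 := PR.one.el_eq

theorem good_id : Good idP := ⟨1, PR.one⟩

theorem Good.mul {m n : ℕ} (hm : Good m) (hn : Good n) : Good (pm m n) := ⟨_, hm.pr.mul hn.pr⟩

theorem el_mul {m n : ℕ} (hm : Good m) (hn : Good n) : el (pm m n) = el m * el n :=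
  (hm.pr.mul hn.pr).el_eq

theorem rep_el_inj {m n : ℕ} (hm : Good m) (hn : Good n) (h : J4Rep.rep (el m) = J4Rep.rep (el n))
    {i : ℕ} (hi : i < 24) : lk 5 m i = lk 5 n i := by
  obtain ⟨g, hg, e⟩ := hm.pr
  obtain ⟨g', hg', e'⟩ := hn.pr
  have := pairs_rep ⟨((el m)⁻¹ * el n, g⁻¹ * g'), mul_mem (inv_mem hg) hg'⟩
    (by show J4Rep.rep ((el m)⁻¹ * el n) = 1; rw [map_mul, map_inv, h, inv_mul_cancel])
  rw [e i hi, e' i hi, inv_mul_eq_one.1 this]

theorem el_inj {m n : ℕ} (hm : Good m) (hn : Good n) (h : el m = el n) {i : ℕ} (hi : i < 24) :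
    lk 5 m i = lk 5 n i := rep_el_inj hm hn (congrArg _ h) hi

/-- A number with product one is the inverse. -/
theorem PR.inv {m n : ℕ} {a : J4P} (ha : PR m a) (h : Nat.beq (pm m n) idP = true) : PR n a⁻¹ := by
  obtain ⟨g, hg, e⟩ := id ha
  refine ⟨g⁻¹, (inv_mem hg : _), fun j hj => ?_⟩
  have hg' : (g : Equiv.Perm GolayPt).symm ((g : Equiv.Perm GolayPt) (pt j)) = pt j := Equiv.symm_apply_apply _ _
  have h1 := lk_pm m n (idx_lt ((g : Equiv.Perm GolayPt) (pt j)))
  rw [Nat.eq_of_beq_eq_true h, lk_id (idx_lt _), e _ (idx_lt _), pt_idx, hg', idx_pt hj] at h1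
  exact h1.symm

theorem Good.inv {m n : ℕ} (hm : Good m) (h : Nat.beq (pm m n) idP = true) : Good n :=
  ⟨_, hm.pr.inv h⟩

theorem el_inv {m n : ℕ} (hm : Good m) (h : Nat.beq (pm m n) idP = true) : el n = (el m)⁻¹ :=
  (hm.pr.inv h).el_eq

/-- The permutation of `x`. -/
def pX : ℕ := 0x2dac7048354eb4b3ce54891181a57
/-- The permutation of `y`. -/
def pY : ℕ := 0xbaab48846d799209120c395d698968
/-- The permutation of the inverse of `y`. -/
def pYi : ℕ := 0xb92b41ae69796080d9a03b8ca88a4c

/-- The image of `x`. -/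
noncomputable def gX : J4P := PresentedGroup.of .x
/-- The image of `y`. -/
noncomputable def gY : J4P := PresentedGroup.of .y
/-- The image of `t`. -/
noncomputable def gT : J4P := PresentedGroup.of .t

theorem pr_letter {n : ℕ} (a : ℕ) (h : (List.range 24).all (fun i =>
    Nat.beq (lk 5 n i) (let T := if flip a / 2 = 0 then xTbl else yTbl
      if flip a % 2 = 0 then T.getD i 0 else (invTbl T).getD i 0)) = true) :
    PR n (val (fun k => (sBoth k).1) a) := by
  refine ⟨val (fun k => (sBoth k).2) a, ?_, fun i hi => ?_⟩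
  · simp only [val]
    split
    · exact sBoth_mem _
    · exact inv_mem (sBoth_mem _)
  · have h1 := Nat.eq_of_beq_eq_true (List.all_eq_true.1 h i (List.mem_range.2 hi))
    rw [h1, ← val_inv_symm]
    have := val_idx (flip a) (pt i)
    rw [idx_pt hi] at this
    exact this.symm
where
  val_inv_symm {a i : ℕ} : idx (((val (fun k => (sBoth k).2) (flip a) : M24) : Equiv.Perm GolayPt) (pt i)) =
      idx (((val (fun k => (sBoth k).2) a : M24) : Equiv.Perm GolayPt).symm (pt i)) := by
    rw [val_flip]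
    rfl

theorem pr_x : PR pX gX := by
  have h := pr_letter (n := pX) 0 (by decide +kernel)
  simpa [val, sBoth, gX] using h

theorem pr_y : PR pY gY := by
  have h := pr_letter (n := pY) 2 (by decide +kernel)
  simpa [val, sBoth, gY] using h

theorem pr_yi : PR pYi gY⁻¹ := by
  have h := pr_letter (n := pYi) 3 (by decide +kernel)
  simpa [val, sBoth, gY] using h

/-- The number of a word in the letters `x, y, y⁻¹`. -/
noncomputable def wordP : List ℕ → ℕ
  | [] => idP
  | a :: r => pm ([pX, pY, pYi].getD a idP) (wordP r)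

/-- The element of a word. -/
noncomputable def wordG : List ℕ → J4P
  | [] => 1
  | a :: r => [gX, gY, gY⁻¹].getD a 1 * wordG r

theorem pr_code (a : ℕ) : PR ([pX, pY, pYi].getD a idP) ([gX, gY, gY⁻¹].getD a 1) := by
  by_cases ha : a < 3
  · interval_cases a
    · simp only [List.getD_cons_zero]
      exact pr_x
    · simp only [List.getD_cons_zero, List.getD_cons_succ]
      exact pr_y
    · simp only [List.getD_cons_zero, List.getD_cons_succ]
      exact pr_yi
  · rw [List.getD_eq_default _ _ (by simpa using ha), List.getD_eq_default _ _ (by simpa using ha)]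
    exact PR.one

theorem pr_word (L : List ℕ) : PR (wordP L) (wordG L) := by
  induction L with
  | nil => rw [wordP, wordG]; exact PR.one
  | cons a r ih => rw [wordP, wordG]; exact (pr_code a).mul ih

theorem el_word (L : List ℕ) : el (wordP L) = wordG L := (pr_word L).el_eq

theorem good_word (L : List ℕ) : Good (wordP L) := ⟨_, pr_word L⟩

end CfsgLib.Sporadic.CosetCert.J4Index
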