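import Cfsg.Agent.Lib.Sporadic.J4Index.UniDefs
import Cfsg.Agent.Lib.Sporadic.J4Rep.Checks

/-!
# Tests with the matrices of degree 112
-/

set_option autoImplicit false

namespace CfsgLib.Sporadic.CosetCert.J4Index

open BitMatrix J4Rep

/-- Two products of matrices agree. -/
noncomputable def eqProd (L M : List (List ℕ)) : Bool :=
  Nat.beq (J4Index.force (prodP 112 L) (pack 112 (one 112))) (J4Index.force (prodP 112 M) (pack 112 (one 112)))

/-- The matrices of a word. -/
noncomputable def mats (w : List ℕ) : List (List ℕ) := w.map lett

/-- The image of a bit string under a word. -/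
noncomputable def vapp : List ℕ → ℕ → ℕ
  | [], v => v
  | a :: r, v => J4Index.force (vapp r) (apL (lett a) v)

/-- The difference of a row to that of the identity. -/
noncomputable def dif (A : List ℕ) (i : ℕ) : ℕ := Nat.xor (A.getD i 0) (2 ^ i)

end CfsgLib.Sporadic.CosetCert.J4Index
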