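import Cfsg.Agent.Lib.Sporadic.J4Index.Checks
import Cfsg.Agent.Lib.Sporadic.J4Index.RepDefs
import Cfsg.Agent.Lib.Sporadic.J4Index.Base

/-!
# Kernel checks for simplicity
-/

set_option autoImplicit false
set_option maxRecDepth 100000

namespace CfsgLib.Sporadic.CosetCert.J4Index

open OutCert

/-- No subset of the sizes but the empty one adds one to a proper divisor of the index. -/
noncomputable def noSum : List ℕ → ℕ → Bool
  | [], s => Nat.beq s 1 || !(Nat.beq (173067389 % s) 0)
  | a :: r, s => (Nat.blt 15733399 (s + a) || noSum r (s + a)) && noSum r s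

/-- The sizes of the orbits other than the first two. -/
def sizesTail : List ℕ :=
  [318780, 5100480, 1912680, 81607680, 15301440, 40803840, 1275120, 478170, 7650720, 12241152, 2550240, 2550240,
    212520, 967680, 53130, 11385, 26565, 1771]

theorem noSum_ok : noSum sizesTail 1 = true := by decide +kernel

theorem sizes_eq : (List.range' 2 18).map (fun i => 244823040 / ([244823040, 64512, 768, 48, 128, 3, 16, 6, 192, 512,
    32, 20, 96, 96, 1152, 253, 4608, 21504, 9216, 138240] : List ℕ).getD i 0) = sizesTail := by decide +kernel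

/-- Elements fixing the first point move every other point; every point is an image of the first. -/
theorem centT_ok : ((List.range 24).all fun j => Nat.beq j 0 ||
      esT.any fun e => Nat.beq (lk 5 e 0) 0 && !(Nat.beq (lk 5 e j) j)) = true ∧
    ((List.range 24).all fun i => esT.any fun e => Nat.beq (lk 5 e 0) i) = true := by decide +kernel

theorem uX_ne : eqProd (mats (uWord ++ [0])) (mats ([0] ++ uWord)) = false := by decide +kernel

theorem quad_ne : (List.range 24).all (fun i => Nat.beq (lk 5 (wordP ([1, 0, 1, 0, 1, 0, 1] ++ [1, 0, 1, 0, 1, 0, 1] ++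
    [1, 0, 1, 0, 1, 0, 1] ++ ([1, 0, 1, 0, 1, 0, 1] ++ [1, 0, 1, 0, 1, 0, 1] ++ [1, 0, 1, 0, 1, 0, 1]))) i) i) = false := by
  decide +kernel



end CfsgLib.Sporadic.CosetCert.J4Index
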