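import Cfsg.Agent.Lib.Sporadic.J4Index.Order
import Cfsg.Prelude.Def_Sporadic
import Cfsg.Agent.Lib.Sporadic.J4Index.SimpleCheck

/-!
# The presented group is simple of the order of the fourth Janko group; the representation is faithful
-/

set_option autoImplicit false
set_option maxRecDepth 100000

namespace CfsgLib.Sporadic.CosetCert.J4Index

open OutCert BitMatrix Cfsg Cfsg.Spor J4M24 Matrix

attribute [local irreducible] pm idP lk sift wT wTi sW sWi BitMatrix.mulP BitMatrix.ok BitMatrix.one isOne dec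
  stepsH pathsH pack unpack

theorem card_J4P_eq : Nat.card J4P = 86775571046077562880 := by rw [card_J4P, index_HS]

theorem cosetMap_bijective : Function.Bijective cosetMap := by
  refine cosetMap_surjective.bijective_of_nat_card_le ?_
  rw [Nat.card_sigma, show Nat.card (J4P ⧸ HS) = HS.index from rfl, index_HS]
  exact sum_bound ▸ Finset.sum_le_sum fun i _ => quot_le i

theorem quot_eq (i : Fin 20) : Nat.card (XY ⧸ nodeStab i) = 244823040 / stabOrd.getD i 0 := by
  have h : ∑ i, Nat.card (XY ⧸ nodeStab i) = ∑ i : Fin 20, 244823040 / stabOrd.getD i 0 := by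
    rw [← Nat.card_sigma, Nat.card_congr (Equiv.ofBijective _ cosetMap_bijective), sum_bound]
    exact index_HS
  exact (Finset.sum_eq_sum_iff_of_le fun i _ => quot_le i).1 h i (Finset.mem_univ _)

theorem gN_one : gN pathsH 1 = gT := by
  rw [gN, show pathsH.getD 1 [] = [0] by decide +kernel, List.map_singleton, List.prod_singleton, tP_zero]

/-- The sum of the selected entries. -/
def selSum (f : ℕ → Bool) : List ℕ → ℕ → ℕ
  | [], _ => 0
  | a :: r, k => (if f k then a else 0) + selSum f r (k + 1)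

theorem noSum_sound (f : ℕ → Bool) : ∀ (r : List ℕ) (s k : ℕ), noSum r s = true →
    s + selSum f r k ∣ 173067389 → s + selSum f r k ≤ 15733399 → s + selSum f r k = 1 := by
  intro r
  induction r with
  | nil =>
    intro s k h hd _
    simp only [selSum, add_zero] at hd ⊢
    simp only [noSum, Bool.or_eq_true, Nat.beq_eq, Bool.not_eq_true'] at h
    rcases h with h | h
    · exact h
    · have e : Nat.beq (173067389 % s) 0 = true := by rw [Nat.beq_eq]; exact Nat.mod_eq_zero_of_dvd hd
      rw [h] at e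
      exact Bool.noConfusion e
  | cons a r ih =>
    intro s k h hd hle
    simp only [noSum, Bool.and_eq_true, Bool.or_eq_true, Nat.blt_eq] at h
    simp only [selSum] at hd hle ⊢
    cases hf : f k
    · simp only [hf, Bool.false_eq_true, if_false, zero_add] at hd hle ⊢
      exact ih s (k + 1) h.2 hd hle
    · simp only [hf, if_true, ← add_assoc] at hd hle ⊢
      rcases h.1 with h1 | h1
      · omega
      · exact ih _ (k + 1) h1 hd hle

theorem dvd_small {d : ℕ} (h : d ∣ 173067389) (hne : d ≠ 173067389) : d ≤ 15733399 := by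
  obtain ⟨k, hk⟩ := h
  have h11 : ∀ k < 11, k ∣ 173067389 → k ≤ 1 := by decide +kernel
  rcases Nat.lt_or_ge k 11 with hk' | hk'
  · have := h11 k hk' ⟨d, by rw [hk, mul_comm]⟩
    interval_cases k
    · omega
    · exact absurd (by omega) hne
  · have := Nat.mul_le_mul_left d hk'
    omega

theorem maximal_HS (L : Subgroup J4P) (hL : HS ≤ L) : L = HS ∨ L = ⊤ := by
  classical
  let s : Finset (Fin 20) := Finset.univ.filter fun i : Fin 20 => gN pathsH (i : ℕ) ∈ L
  let F : (Σ i : s, XY ⧸ nodeStab (i : Fin 20)) → {c : J4P ⧸ HS // ∀ g : J4P, (g : J4P ⧸ HS) = c → g ∈ L} :=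
    fun x => ⟨cosetMap ⟨x.1, x.2⟩, by
      obtain ⟨⟨i, hi⟩, b⟩ := x
      induction b using QuotientGroup.induction_on with
      | _ b =>
        intro g hg
        have hi' : gN pathsH (i : ℕ) ∈ L := (Finset.mem_filter.1 hi).2
        change (g : J4P ⧸ HS) = (((b : J4P) * (gN pathsH (i : ℕ))⁻¹ : J4P) : J4P ⧸ HS) at hg
        rw [QuotientGroup.eq] at hg
        have := L.mul_mem (L.mul_mem (hL (XY_le_HS b.2)) (L.inv_mem hi')) (L.inv_mem (hL hg))
        simpa only [_root_.mul_inv_rev, inv_inv, mul_assoc, inv_mul_cancel_left, mul_inv_cancel, mul_one,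
          mul_inv_cancel_left, inv_mul_cancel] using this⟩
  have hF : Function.Bijective F := by
    constructor
    · intro x y e
      have e' := cosetMap_bijective.1 (congrArg Subtype.val e)
      obtain ⟨⟨i, hi⟩, a⟩ := x
      obtain ⟨⟨j, hj⟩, b⟩ := y
      obtain ⟨rfl, e2⟩ := Sigma.mk.inj_iff.1 e'
      exact congrArg (Sigma.mk (⟨i, hi⟩ : s)) (eq_of_heq e2)
    · rintro ⟨c, hc⟩
      obtain ⟨⟨i, b⟩, rfl⟩ := cosetMap_surjective c
      have hi : i ∈ s := by
        induction b using QuotientGroup.induction_on with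
        | _ b =>
          have := hc ((b : J4P) * (gN pathsH (i : ℕ))⁻¹) rfl
          refine Finset.mem_filter.2 ⟨Finset.mem_univ _, ?_⟩
          have h2 := L.inv_mem (L.mul_mem (L.inv_mem (hL (XY_le_HS b.2))) this)
          simpa using h2
      exact ⟨⟨⟨i, hi⟩, b⟩, rfl⟩
  have hcard := Nat.card_congr (Equiv.ofBijective F hF)
  let G : L ⧸ HS.subgroupOf L → {c : J4P ⧸ HS // ∀ g : J4P, (g : J4P ⧸ HS) = c → g ∈ L} := fun c =>
    Quotient.liftOn' c (fun l => ⟨((l : J4P) : J4P ⧸ HS), fun g hg => by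
      rw [QuotientGroup.eq] at hg
      simpa using L.mul_mem (L.mul_mem l.2 (L.inv_mem (hL hg))) L.one_mem⟩) fun a b h => by
      rw [QuotientGroup.leftRel_apply, Subgroup.mem_subgroupOf] at h
      exact Subtype.ext (QuotientGroup.eq.2 (by simpa using h))
  have hG : Function.Bijective G := by
    constructor
    · intro a b
      induction a using QuotientGroup.induction_on with
      | _ a =>
        induction b using QuotientGroup.induction_on with
        | _ b =>
          intro e
          have := QuotientGroup.eq.1 (congrArg Subtype.val e)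
          exact QuotientGroup.eq.2 (by simpa [Subgroup.mem_subgroupOf] using this)
    · rintro ⟨c, hc⟩
      induction c using QuotientGroup.induction_on with
      | _ g => exact ⟨QuotientGroup.mk (⟨g, hc g rfl⟩ : L), rfl⟩
  have hrel : HS.relIndex L = ∑ i ∈ s, 244823040 / stabOrd.getD (i : ℕ) 0 := by
    refine ((Nat.card_congr (Equiv.ofBijective G hG)).trans hcard.symm).trans ?_
    rw [Nat.card_sigma, ← Finset.sum_coe_sort s]
    exact Finset.sum_congr rfl fun i _ => quot_eq (i : Fin 20)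
  have hmul := Subgroup.relIndex_mul_index hL
  rw [index_HS] at hmul
  by_cases htop : L = ⊤
  · exact Or.inr htop
  left
  have h1 : gN pathsH 1 ∉ L := by
    rw [gN_one]
    intro ht
    refine htop (eq_top_iff.2 ?_)
    rw [← gens_top, Subgroup.closure_le]
    rintro g (rfl | rfl | rfl)
    · exact hL (Subgroup.subset_closure (by simp))
    · exact hL (Subgroup.subset_closure (by simp))
    · exact ht
  have h0 : gN pathsH 0 ∈ L := by rw [gNH_zero]; exact L.one_mem
  have hne : HS.relIndex L ≠ 173067389 := by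
    intro e
    rw [e] at hmul
    exact htop (Subgroup.index_eq_one.1 (by omega))
  have hsum : ∑ i ∈ s, 244823040 / stabOrd.getD (i : ℕ) 0 =
      1 + selSum (fun k => decide (gN pathsH (k + 2) ∈ L)) sizesTail 0 := by
    rw [Finset.sum_filter]
    simp only [Fin.sum_univ_succ, Fin.sum_univ_zero, sizesTail, selSum, stabOrd, Fin.val_zero, Fin.val_succ,
      List.getD_cons_zero, List.getD_cons_succ, decide_eq_true_eq, if_neg h1, if_pos h0, add_zero]
    norm_num
  have hdvd : HS.relIndex L ∣ 173067389 := Dvd.intro _ hmul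
  have hsmall := dvd_small hdvd hne
  rw [hrel, hsum] at hdvd hsmall
  have h := noSum_sound _ _ 1 0 noSum_ok hdvd hsmall
  refine le_antisymm (Subgroup.relIndex_eq_one.1 ?_) hL
  rw [hrel, hsum]
  exact h

/-- The fixed vector. -/
noncomputable def v0 : Fin 112 → ZMod 2 := vecN (2 ^ 111)

theorem vapp_spec : ∀ (w : List ℕ) (v : ℕ), vecN (vapp w v) = vecMul (vecN v) (repM (w4 w)) := by
  intro w
  induction w with
  | nil => intro v; rw [vapp, show w4 [] = 1 from rfl, repM_one, vecMul_one]
  | cons a r ih =>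
    intro v
    rw [vapp, force_eq, ih, vecN_apL (J4Rep.ok_lett a), show w4 (a :: r) = g4 a * w4 r from rfl, repM_mul, repM_g4,
      vecMul_vecMul]

theorem v0_fix {g : J4P} (hg : g ∈ HS) : vecMul v0 (repM g) = v0 := by
  have base : ∀ w, Nat.beq (vapp w (2 ^ 111)) (2 ^ 111) = true → vecMul v0 (repM (w4 w)) = v0 := fun w h => by
    rw [v0, ← vapp_spec, Nat.eq_of_beq_eq_true h]
  obtain ⟨a, b, c⟩ := fix_ok
  have gen : ∀ y ∈ ({gX, gY, gU} : Set J4P), vecMul v0 (repM y) = v0 := by
    rintro y (rfl | rfl | rfl)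
    · simpa [w4, g4] using base [0] a
    · simpa [w4, g4] using base [1] b
    · rw [gU_word]; exact base _ c
  induction hg using Subgroup.closure_induction with
  | mem y hy => exact gen y hy
  | one => rw [repM_one, vecMul_one]
  | mul x y _ _ hx hy => rw [repM_mul, ← vecMul_vecMul, hx, hy]
  | inv x _ hx =>
    conv_lhs => rw [← hx]
    rw [vecMul_vecMul, ← repM_mul, mul_inv_cancel, repM_one, vecMul_one]

/-- The pairs with trivial matrix in the subgroup are trivial. -/
theorem HS_rep {g : J4P} (hg : g ∈ HS) (h : repM g = 1) : g = 1 := by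
  let S : Subgroup J4P :=
    { carrier := {m | m ∈ XY ∧ ∃ u ∈ UN, repM m = repM u}
      one_mem' := ⟨XY.one_mem, 1, UN.one_mem, rfl⟩
      mul_mem' := fun {a b} ha hb => by
        obtain ⟨ha, u, hu, e⟩ := ha
        obtain ⟨hb, v, hv, e'⟩ := hb
        exact ⟨XY.mul_mem ha hb, u * v, UN.mul_mem hu hv, by rw [repM_mul, repM_mul, e, e']⟩
      inv_mem' := fun {a} ha => by
        obtain ⟨ha, u, hu, e⟩ := ha
        refine ⟨XY.inv_mem ha, u⁻¹, UN.inv_mem hu, ?_⟩
        have : repM a⁻¹ = repM a⁻¹ * (repM u * repM u⁻¹) := by rw [← repM_mul, mul_inv_cancel, repM_one, mul_one]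
        rw [this, ← e, ← mul_assoc, ← repM_mul, inv_mul_cancel, repM_one, one_mul] }
  have hS : S = ⊥ := by
    refine (XY_simple S (fun m hm => hm.1) ?_).resolve_right ?_
    · rintro a ha m ⟨hm, u, hu, e⟩
      refine ⟨XY.mul_mem (XY.mul_mem ha hm) (XY.inv_mem ha), a * u * a⁻¹, conj_UN ha hu, ?_⟩
      rw [repM_mul, repM_mul, repM_mul, repM_mul, e]
    · intro e
      have hx : gX ∈ S := e ▸ Subgroup.subset_closure (by simp)
      have hy : gY ∈ S := e ▸ Subgroup.subset_closure (by simp)
      obtain ⟨hx, u, hu, eu⟩ := hx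
      obtain ⟨hy, v, hv, ev⟩ := hy
      exact xy_noncomm (XY_rep_inj (XY.mul_mem hx hy) (XY.mul_mem hy hx) (by
        rw [repM_mul, repM_mul, eu, ev, ← repM_mul, ← repM_mul, (UN_comm hu hv).eq]))
  obtain ⟨u, hu, m, hm, rfl⟩ := HS_decomp hg
  have hms : m ∈ S := by
    refine ⟨hm, u⁻¹, UN.inv_mem hu, ?_⟩
    calc repM m = repM (u⁻¹ * (u * m)) := by rw [inv_mul_cancel_left]
      _ = repM u⁻¹ := by rw [repM_mul, h, mul_one]
  rw [hS, Subgroup.mem_bot] at hms
  subst hms
  rw [mul_one] at h ⊢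
  exact UN_rep hu h

theorem eq_bot_of_le {N : Subgroup J4P} (hN : N.Normal) (hle : N ≤ HS) : N = ⊥ := by
  rw [eq_bot_iff]
  intro n hn
  rw [Subgroup.mem_bot]
  refine HS_rep (hle hn) ?_
  obtain ⟨hmap, oA, oB, hinv⟩ := span_ok
  have h1 : dec 112 spanMat * repM n = dec 112 spanMat := by
    funext i
    have hi : (i : ℕ) < spanWords.length := by
      have := congrArg List.length hmap
      rw [List.length_map, (ok_iff.1 oA).1] at this
      omega
    have hrow : (fun j => dec 112 spanMat i j) = vecMul v0 (repM (w4 spanWords[(i : ℕ)])) := by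
      rw [← vecN_row, v0, ← vapp_spec]
      congr 1
      rw [← List.getD_eq_getElem (d := []) _ hi, ← hmap, List.getD_eq_getElem _ _ (by simpa using hi),
        List.getElem_map, List.getD_eq_getElem _ _ hi]
    have hfix := v0_fix (hle (hN.conj_mem n hn (w4 spanWords[(i : ℕ)])))
    show (fun j => (dec 112 spanMat * repM n) i j) = fun j => dec 112 spanMat i j
    rw [hrow, show (fun j => (dec 112 spanMat * repM n) i j) = vecMul (fun j => dec 112 spanMat i j) (repM n) from rfl,
      hrow, vecMul_vecMul, ← repM_mul]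
    conv_rhs => rw [← hfix]
    rw [vecMul_vecMul, ← repM_mul, inv_mul_cancel_right]
  have h2 := isOne_spec (n := 112) (L := [spanMat, spanInv]) (by simp [oA, oB]) hinv
  simp only [List.map_cons, List.map_nil, List.prod_cons, List.prod_nil, mul_one] at h2
  calc repM n = (dec 112 spanInv * dec 112 spanMat) * repM n := by rw [mul_eq_one_comm.1 h2, one_mul]
    _ = 1 := by rw [mul_assoc, h1, mul_eq_one_comm.1 h2]

theorem centraliser_trivial {m : J4P} (hm : m ∈ XY) (hx : ∀ k, Commute m (el (esT.getD k idP))) : m = 1 := by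
  obtain ⟨g, hg⟩ := exists_pr hm
  obtain ⟨h1, h2⟩ := centT_ok
  simp only [List.all_eq_true, List.mem_range, Bool.or_eq_true, List.any_eq_true, Bool.and_eq_true,
    Bool.not_eq_true', Nat.beq_eq] at h1 h2
  have hT := (treeOK_sound gensT_In treeT_ok).1
  have hcomm : ∀ e ∈ esT, ∀ i < 24, lk 5 g (lk 5 e i) = lk 5 e (lk 5 g i) := by
    intro e he i hi
    obtain ⟨k, hk, rfl⟩ := List.mem_iff_getElem.1 he
    have hk2 := hx k
    have hge := (hT k).1
    rw [List.getD_eq_getElem _ _ hk] at hk2 hge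
    have hv := el_inj (hge.mul ⟨m, hg⟩) (Good.mul ⟨m, hg⟩ hge) (by rw [el_mul hge ⟨m, hg⟩, el_mul ⟨m, hg⟩ hge, hg.el_eq, hk2.eq]) hi
    rwa [lk_pm _ _ hi, lk_pm _ _ hi] at hv
  have h0 : lk 5 g 0 = 0 := by
    rcases h1 _ (hg.lt (show 0 < 24 by norm_num)) with h | ⟨e, he, he0, hne⟩
    · exact h
    · have := hcomm e he 0 (by norm_num)
      rw [he0] at this
      rw [Bool.eq_false_iff, Ne, Nat.beq_eq] at hne
      exact absurd this.symm hne
  rw [← hg.el_eq, ← el_id]
  have : ∀ i < 24, lk 5 g i = i := by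
    intro i hi
    obtain ⟨e, he, he0⟩ := h2 i hi
    have := hcomm e he 0 (by norm_num)
    rwa [he0, h0, he0] at this
  obtain ⟨σ, hσ, eσ⟩ := hg
  have hg'' : PR idP m := ⟨σ, hσ, fun i hi => by rw [lk_id hi, ← eσ i hi, this i hi]⟩
  exact (PR.el_eq (⟨σ, hσ, eσ⟩ : PR g m)).trans ((hg''.unique PR.one).trans el_id.symm)
where
  exists_pr {m : J4P} (hm : m ∈ XY) : ∃ n, PR n m := by
    induction hm using Subgroup.closure_induction_right with
    | one => exact ⟨idP, PR.one⟩
    | mul_right x _ y hy ih =>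
      obtain ⟨n, hn⟩ := ih
      rcases hy with rfl | rfl
      · exact ⟨_, hn.mul pr_x⟩
      · exact ⟨_, hn.mul pr_y⟩
    | mul_inv_cancel x _ y hy ih =>
      obtain ⟨n, hn⟩ := ih
      rcases hy with rfl | rfl
      · exact ⟨_, by rw [show gX⁻¹ = gX from inv_eq_of_mul_eq_one_right (by rw [← pow_two]; exact rels.1)]; exact hn.mul pr_x⟩
      · exact ⟨_, hn.mul pr_yi⟩

theorem simple_J4P : IsSimpleGroup J4P := by
  have hnt : Nontrivial J4P := ⟨⟨gX, 1, J4Rep.x_ne_one⟩⟩
  refine IsSimpleGroup.mk fun N hN => ?_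
  rcases maximal_HS (N ⊔ HS) le_sup_right with h | h
  · exact Or.inl (eq_bot_of_le hN (h ▸ le_sup_left))
  right
  have hdec : ∀ g : J4P, ∃ a ∈ N, ∃ u ∈ UN, ∃ m ∈ XY, g = a * (u * m) := fun g => by
    have hg : g ∈ N ⊔ HS := h ▸ Subgroup.mem_top g
    obtain ⟨a, ha, b, hb, rfl⟩ := Subgroup.mem_sup_of_normal_left.1 hg
    obtain ⟨u, hu, m, hm, rfl⟩ := HS_decomp hb
    exact ⟨a, ha, u, hu, m, hm, rfl⟩
  let M : Subgroup J4P := N ⊔ UN
  have hM : M.Normal := by
    refine ⟨fun z hz g => ?_⟩
    obtain ⟨a, ha, v, hv, rfl⟩ := Subgroup.mem_sup_of_normal_left.1 hz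
    obtain ⟨b, hb, u, hu, m, hm, rfl⟩ := hdec g
    rw [show b * (u * m) * (a * v) * (b * (u * m))⁻¹ =
      (b * (u * m) * a * (b * (u * m))⁻¹) * (b * (u * (m * v * m⁻¹) * u⁻¹) * b⁻¹) by group]
    refine M.mul_mem (Subgroup.mem_sup_left (hN.conj_mem a ha _)) ?_
    refine M.mul_mem (M.mul_mem (Subgroup.mem_sup_left hb) (Subgroup.mem_sup_right ?_))
      (M.inv_mem (Subgroup.mem_sup_left hb))
    exact UN.mul_mem (UN.mul_mem hu (conj_UN hm hv)) (UN.inv_mem hu)
  obtain ⟨q, hq⟩ : ∃ q, q = QuotientGroup.mk' M := ⟨_, rfl⟩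
  have hker : ∀ g, q g = 1 ↔ g ∈ M := fun g => by rw [hq]; exact QuotientGroup.eq_one_iff g
  have hsurj : ∀ g, ∃ m ∈ XY, q g = q m := fun g => by
    obtain ⟨a, ha, u, hu, m, hm, rfl⟩ := hdec g
    refine ⟨m, hm, ?_⟩
    rw [map_mul, map_mul, (hker a).2 (Subgroup.mem_sup_left ha), (hker u).2 (Subgroup.mem_sup_right hu), one_mul,
      one_mul]
  rcases XY_simple (M ⊓ XY) inf_le_right (fun a ha k hk =>
      ⟨hM.conj_mem k hk.1 a, XY.mul_mem (XY.mul_mem ha hk.2) (XY.inv_mem ha)⟩) with hX | hX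
  · exfalso
    have hinj : ∀ a ∈ XY, ∀ b ∈ XY, q a = q b → a = b := fun a ha b hb e => by
      have hm : a⁻¹ * b ∈ M ⊓ XY :=
        ⟨(hker _).1 (by rw [map_mul, map_inv, e, inv_mul_cancel]), XY.mul_mem (XY.inv_mem ha) hb⟩
      rw [hX, Subgroup.mem_bot] at hm
      exact inv_mul_eq_one.1 hm
    obtain ⟨m, hm, em⟩ := hsurj gT
    have hm1 : m = 1 := by
      refine centraliser_trivial hm fun k => ?_
      obtain ⟨hg, hc⟩ := (treeOK_sound gensT_In treeT_ok).1 k
      have hk := el_mem hg
      rw [Subgroup.mem_centralizer_singleton_iff] at hc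
      exact hinj _ (XY.mul_mem hm hk) _ (XY.mul_mem hk hm) (by
        rw [map_mul, map_mul, ← em, ← map_mul, ← map_mul, hc])
    have hqt : q gT = 1 := by rw [em, hm1, map_one]
    have hq2 := congrArg q rels.2.2.2.2.2.2
    simp only [map_pow, map_mul, map_inv, hqt, mul_one, inv_mul_cancel] at hq2
    rw [pow_two, ← map_mul, ← wordG_append] at hq2
    have hz := hinj _ (wordG_mem _) 1 XY.one_mem (by rw [hq2, map_one])
    have hd := quad_ne
    rw [Bool.eq_false_iff] at hd
    refine hd (List.all_eq_true.2 fun i hi => ?_)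
    rw [Nat.beq_eq]
    have := el_inj (good_word _) good_id (by rw [el_word, el_id]; exact hz) (List.mem_range.1 hi)
    rwa [lk_id (List.mem_range.1 hi)] at this
  · have hle : XY ≤ M := hX ▸ inf_le_left
    have htop : ∀ g : J4P, g ∈ M := fun g => by
      obtain ⟨m, hm, e⟩ := hsurj g
      exact (hker g).1 (e.trans ((hker m).2 (hle hm)))
    obtain ⟨p, hp⟩ : ∃ p, p = QuotientGroup.mk' N := ⟨_, rfl⟩
    have hU : ∀ g, ∃ u ∈ UN, p g = p u := fun g => by
      obtain ⟨a, ha, u, hu, rfl⟩ := Subgroup.mem_sup_of_normal_left.1 (htop g)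
      refine ⟨u, hu, ?_⟩
      rw [map_mul, show p a = 1 by rw [hp]; exact (QuotientGroup.eq_one_iff a).2 ha, one_mul]
    have hcomm : ∀ a b, p a * p b = p b * p a := fun a b => by
      obtain ⟨u, hu, e⟩ := hU a
      obtain ⟨v, hv, e'⟩ := hU b
      rw [e, e', ← map_mul, ← map_mul, (UN_comm hu hv).eq]
    obtain ⟨x2, y3, t2, -, -, hyt, -⟩ := rels
    have hxy : (gX * gY) ^ 23 = 1 := by
      have := relator ((J4.x * J4.y) ^ 23) (by simp [J4.extra])
      rw [map_pow, map_mul] at this
      exact this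
    have px2 : p gX ^ 2 = 1 := by rw [← map_pow, x2, map_one]
    have py3 : p gY ^ 3 = 1 := by rw [← map_pow, y3, map_one]
    have hc : p gX ^ 23 * p gY ^ 23 = 1 := by
      rw [← (show Commute (p gX) (p gY) from hcomm _ _).mul_pow, ← map_mul, ← map_pow, hxy, map_one]
    rw [pow_eq_pow_mod 23 px2, pow_eq_pow_mod 23 py3] at hc
    norm_num at hc
    have hpx : p gX = 1 := by
      have e : p gX = p gY := by
        calc p gX = p gX * (p gY ^ 2 * p gY) := by rw [← pow_succ, py3, mul_one]
          _ = p gY := by rw [← mul_assoc, hc, one_mul]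
      have e3 : p gX ^ 3 = 1 := by rw [e, py3]
      rwa [pow_succ, px2, one_mul] at e3
    have hpy : p gY = 1 := by
      rw [hpx, one_mul] at hc
      rwa [pow_succ, hc, one_mul] at py3
    have hpt : p gT = 1 := by
      have e := congrArg p hyt
      rw [map_pow, map_one, map_mul, map_mul, map_mul, map_inv, hpy, one_mul, mul_assoc, hcomm gT, inv_mul_cancel_left] at e
      have e2 : p gT ^ 2 = 1 := by rw [← map_pow, t2, map_one]
      rwa [pow_succ, e2, one_mul] at e
    rw [eq_top_iff, ← gens_top, Subgroup.closure_le]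
    rintro g (rfl | rfl | rfl) <;> apply (QuotientGroup.eq_one_iff _).1 <;> [skip; skip; skip]
    · rw [hp] at hpx; exact hpx
    · rw [hp] at hpy; exact hpy
    · rw [hp] at hpt; exact hpt

/-- The presented group is a simple group of the order of the fourth Janko group. -/
theorem isJ4_J4P : Cfsg.IsJ4 J4P := ⟨simple_J4P, card_J4P_eq⟩

theorem rep_injective : Function.Injective J4Rep.rep := by
  rw [← MonoidHom.ker_eq_bot_iff]
  have := simple_J4P
  exact (Subgroup.Normal.eq_bot_or_eq_top (MonoidHom.normal_ker _)).resolve_right fun h =>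
    J4Rep.rep_x_ne_one (MonoidHom.mem_ker.1 (h ▸ Subgroup.mem_top _))

end CfsgLib.Sporadic.CosetCert.J4Index
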