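import Cfsg.Agent.Lib.Sporadic.J4Index.Sound

/-!
# The base relations hold
-/

set_option autoImplicit false
set_option maxRecDepth 100000

namespace CfsgLib.Sporadic.CosetCert.J4Index

open OutCert Cfsg Cfsg.Spor J4M24

attribute [local irreducible] pm idP lk sift wT wTi hE hEi wTn wTin hEn hEin

/-- The word of the conjugating element in the third last relation. -/
def wA : List ℕ := [1, 0, 2, 0, 1, 0, 2, 0]

/-- The word of the conjugating element of the generator `u`. -/
def wU : List ℕ := [1, 0, 1, 0, 1, 0, 1, 0, 2, 0]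

/-- The word in front in the last relation. -/
def wQ : List ℕ := [1, 0, 1, 0, 1, 0, 1] ++ [1, 0, 1, 0, 1, 0, 1] ++ [1, 0, 1, 0, 1, 0, 1]

/-- The word of the conjugating element in the last relation. -/
def wV : List ℕ := [0, 1, 0, 1, 0, 1, 1, 0, 1, 0, 1, 0, 1, 0, 1, 0, 1, 0, 1, 1]

/-- The third generator of the subgroup. -/
noncomputable def gU : J4P := (gY * ((wordG wU)⁻¹ * gT * wordG wU)) ^ 3

theorem conj_word {L : List ℕ} {q : ℕ} (h : triOK 0 (wordP L) q = true) :
    tP q = (wordG L)⁻¹ * gT * wordG L := by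
  obtain ⟨-, -, e⟩ := triOK_sound (good_word L) h
  rwa [tP_zero, el_word] at e

theorem wordG_append (L M : List ℕ) : wordG (L ++ M) = wordG L * wordG M := by
  induction L with
  | nil => simp [wordG]
  | cons a r ih => simp [wordG, ih, mul_assoc]

theorem cube {L : List ℕ} {a b c : ℕ} (ha : triOK 0 (wordP L) a = true)
    (hb : triOK 0 (wordP (L ++ [2])) b = true) (hc : triOK 0 (wordP (L ++ [2, 2])) c = true) :
    (gY * ((wordG L)⁻¹ * gT * wordG L)) ^ 3 = tP b * tP c * tP a := by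
  have h3 : gY ^ 3 = 1 := rels.2.1
  rw [conj_word ha, conj_word hb, conj_word hc]
  simp only [wordG_append, wordG, List.getD_cons_zero, List.getD_cons_succ, mul_one]
  obtain ⟨S, hS⟩ : ∃ S, S = (wordG L)⁻¹ * gT * wordG L := ⟨_, rfl⟩
  rw [← hS]
  calc (gY * S) ^ 3 = gY * S * gY⁻¹ * (gY * gY * S * (gY⁻¹ * gY⁻¹)) * (gY ^ 3 * S) := by
        simp only [pow_succ, pow_zero, one_mul]; group
    _ = gY * S * gY⁻¹ * (gY * gY * S * (gY⁻¹ * gY⁻¹)) * S := by rw [h3, one_mul]
    _ = _ := by rw [hS]; group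

theorem rot_eq {q q' : ℕ} {qs : List ℕ} {n0 n0i : ℕ} (hn : Good n0) (hi : Nat.beq (pm n0 n0i) idP = true)
    (h : ((q :: qs).map tP).prod * el n0 = 1) (ht : triOK q n0i q' = true) :
    ((qs ++ [q']).map tP).prod * el n0 = 1 := by
  obtain ⟨-, -, e⟩ := triOK_sound (hn.inv hi) ht
  rw [el_inv hn hi, inv_inv] at e
  rw [List.map_cons, List.prod_cons] at h
  rw [List.map_append, List.prod_append, List.map_singleton, List.prod_singleton, e]
  calc (qs.map tP).prod * (el n0 * tP q * (el n0)⁻¹) * el n0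
      = (tP q)⁻¹ * (tP q * (qs.map tP).prod * el n0) * tP q := by group
    _ = 1 := by rw [h, mul_one, inv_mul_cancel]

theorem data_ok :
    triOK 0 (wordP wA) 44 = true ∧ triOK 0 (wordP (wA ++ [2])) 69 = true ∧
      triOK 0 (wordP (wA ++ [2, 2])) 55 = true ∧
    triOK 0 (wordP wU) 52 = true ∧ triOK 0 (wordP (wU ++ [2])) 83 = true ∧
      triOK 0 (wordP (wU ++ [2, 2])) 65 = true ∧
    triOK 0 (wordP wQ) 0 = true ∧ triOK 0 (wordP (wV ++ wQ)) 1935 = true ∧ triOK 0 (wordP []) 0 = true ∧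
      triOK 0 (wordP wV) 354 = true := by decide +kernel

theorem bases_eq : bases.map (fun b => b.1) = [[44, 55, 69], [55, 69, 44], [69, 44, 55], [69, 55, 44], [55, 44, 69],
    [44, 69, 55], [0, 1935, 0, 354], [1935, 0, 354, 0], [0, 354, 0, 1935], [354, 0, 1935, 0], [52, 65, 83],
    [83, 65, 52]] ∧
    bases.map (fun b => b.2.1) = [idP, idP, idP, idP, idP, idP, wordP (wQ ++ wQ), wordP (wQ ++ wQ), wordP (wQ ++ wQ),
      wordP (wQ ++ wQ), idP, idP] := by decide +kernel

theorem rot_data :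
    triOK 44 idP 44 = true ∧ triOK 55 idP 55 = true ∧ triOK 69 idP 69 = true ∧
    triOK 0 ((bases.getD 6 ([], 0, 0)).2.2) 0 = true ∧ triOK 1935 ((bases.getD 6 ([], 0, 0)).2.2) 1935 = true ∧
    Nat.beq (pm (wordP (wQ ++ wQ)) ((bases.getD 6 ([], 0, 0)).2.2)) idP = true ∧
    Nat.beq (pm idP idP) idP = true := by decide +kernel

theorem baseAt_eq {b : ℕ} (hb : b < 12) :
    (baseAt b).1 = (bases.map fun b => b.1).getD b [] ∧ (baseAt b).2.1 = (bases.map fun b => b.2.1).getD b 0 := by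
  have hl : bases.length = 12 := bases_ok.1
  constructor <;>
  · rw [baseAt, List.getD_eq_getElem _ _ (by omega), List.getD_eq_getElem _ _ (by simpa [hl] using hb),
      List.getElem_map]

theorem gU_eq : gU = tP 83 * tP 65 * tP 52 := by
  obtain ⟨-, -, -, a, b, c, -⟩ := data_ok
  exact cube a b c

theorem base_vals : ∀ b < 10, Good (baseAt b).2.1 ∧ baseVal b = 1 := by
  obtain ⟨a1, a2, a3, -, -, -, q1, q2, q3, q4⟩ := data_ok
  obtain ⟨r1, r2, r3, r4, r5, r6, r7⟩ := rot_data
  have t3 : ([69, 55, 44].map tP).prod * el idP = 1 := by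
    have h := (cube a1 a2 a3).symm.trans rels.2.2.2.2.2.1
    rw [el_id, mul_one]
    simpa [mul_assoc] using h
  have t0 : ([44, 55, 69].map tP).prod * el idP = 1 := by
    have h := prod_rev_inv [69, 55, 44]
    rw [el_id, mul_one] at t3
    rw [t3, inv_one] at h
    rw [el_id, mul_one]
    exact h
  have t1 := rot_eq good_id r7 t0 r1
  have t2 := rot_eq good_id r7 t1 r2
  have t4 := rot_eq good_id r7 t3 r3
  have t5 := rot_eq good_id r7 t4 r2
  have t6 : ([0, 1935, 0, 354].map tP).prod * el (wordP (wQ ++ wQ)) = 1 := by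
    have h := rels.2.2.2.2.2.2
    rw [el_word, wordG_append]
    simp only [List.map_cons, List.map_nil, List.prod_cons, List.prod_nil, mul_one]
    nth_rewrite 2 [conj_word q3]
    rw [conj_word q1, conj_word q2, conj_word q4, wordG_append]
    simp only [wordG, inv_one, one_mul, mul_one]
    change (wordG wQ * gT * ((wordG wV)⁻¹ * gT * wordG wV)) ^ 2 = 1 at h
    rw [pow_two] at h
    obtain ⟨Q, hQ⟩ : ∃ Q, Q = wordG wQ := ⟨_, rfl⟩
    obtain ⟨T, hT⟩ : ∃ T, T = (wordG wV)⁻¹ * gT * wordG wV := ⟨_, rfl⟩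
    rw [← hQ, ← hT] at h
    rw [← hQ]
    calc _ = (Q * Q)⁻¹ * (Q * gT * T * (Q * gT * T)) * (Q * Q) := by rw [hT]; group
      _ = 1 := by rw [h, mul_one, inv_mul_cancel]
  have g6 := good_word (wQ ++ wQ)
  have t7 := rot_eq g6 r6 t6 r4
  have t8 := rot_eq g6 r6 t7 r5
  have t9 := rot_eq g6 r6 t8 r4
  intro b hb
  obtain ⟨e1, e2⟩ := baseAt_eq (show b < 12 by omega)
  rw [baseVal, e1, e2, bases_eq.1, bases_eq.2]
  interval_cases b <;> simp only [List.getD_cons_zero, List.getD_cons_succ]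
  exacts [⟨good_id, t0⟩, ⟨good_id, t1⟩, ⟨good_id, t2⟩, ⟨good_id, t3⟩, ⟨good_id, t4⟩, ⟨good_id, t5⟩, ⟨g6, t6⟩,
    ⟨g6, t7⟩, ⟨g6, t8⟩, ⟨g6, t9⟩]

/-- The hypotheses of the checker for a subgroup with `x`, `y` and `u`. -/
theorem hyp_of {H : Subgroup J4P} {P : List (List ℕ)} (hxy : XY ≤ H) (hu : gU ∈ H) (h0 : P.getD 0 [] = []) :
    Hyp H P 12 := by
  refine ⟨hxy, h0, fun b hb => ?_⟩
  by_cases h : b < 10
  · obtain ⟨g, e⟩ := base_vals b h
    exact ⟨g, by rw [e]; exact one_mem H, fun _ => e⟩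
  · obtain ⟨e1, e2⟩ := baseAt_eq hb
    refine ⟨?_, ?_, fun h' => absurd h' h⟩
    · rw [e2, bases_eq.2]
      interval_cases b <;> simp only [List.getD_cons_zero, List.getD_cons_succ] <;> exact good_id
    · rw [baseVal, e1, e2, bases_eq.1, bases_eq.2]
      interval_cases b <;> simp only [List.getD_cons_zero, List.getD_cons_succ, el_id, mul_one]
      · have h := prod_rev_inv [83, 65, 52]
        rw [show ([83, 65, 52].map tP).prod = gU by rw [gU_eq]; simp [mul_assoc]] at h
        exact h ▸ inv_mem hu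
      · rw [show ([83, 65, 52].map tP).prod = gU by rw [gU_eq]; simp [mul_assoc]]
        exact hu

/-- The hypotheses of the checker for a subgroup with `x` and `y`. -/
theorem hyp_of_xy {H : Subgroup J4P} {P : List (List ℕ)} (hxy : XY ≤ H) (h0 : P.getD 0 [] = []) :
    Hyp H P 10 :=
  ⟨hxy, h0, fun b hb => by obtain ⟨g, e⟩ := base_vals b hb; exact ⟨g, by rw [e]; exact one_mem H, fun _ => e⟩⟩

theorem all_holds {H : Subgroup J4P} {F : List (List Fct)} {P : List (List ℕ)} {nb : ℕ} (hy : Hyp H P nb) {n : ℕ}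
    (h : ∀ k < n, stepOK F P nb k = true) : ∀ k < n, Holds H F P k := by
  intro k
  induction k using Nat.strong_induction_on with
  | _ k ih => intro hk; exact step_sound hy (fun l hl => ih l hl (by omega)) (h k hk)

end CfsgLib.Sporadic.CosetCert.J4Index
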