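import Mathlib.Data.Nat.Notation

/-!
# The record of a step of the enumeration of double cosets
-/

set_option autoImplicit false

namespace CfsgLib.Sporadic.CosetCert.J4Index

/-- A step: rule, two nodes, a trio, the permutation and its inverse, two numbers, two lists of earlier steps. -/
abbrev Fct : Type := ℕ × ℕ × ℕ × ℕ × ℕ × ℕ × ℕ × ℕ × List ℕ × List ℕ

end CfsgLib.Sporadic.CosetCert.J4Index
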