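import Cfsg.Agent.Lib.Sporadic.J4Index.Perm
import Cfsg.Agent.Lib.Sporadic.J4Index.Fact
import Cfsg.Agent.Lib.Sporadic.J4Index.TrioData
import Cfsg.Agent.Lib.Sporadic.J4Index.RelData

/-!
# The checker of an enumeration of double cosets
-/

set_option autoImplicit false

namespace CfsgLib.Sporadic.CosetCert.J4Index

open OutCert

/-- The transversal. -/
noncomputable def wT (p : ℕ) : ℕ := lk 120 wTn p

/-- The inverse of the transversal. -/
noncomputable def wTi (p : ℕ) : ℕ := lk 120 wTin p

/-- A conjugating element. -/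
noncomputable def hE (h : ℕ) : ℕ := lk 120 hEn h

/-- Its inverse. -/
noncomputable def hEi (h : ℕ) : ℕ := lk 120 hEin h

/-- The permutation moves the trio `p` to the trio `q`. -/
noncomputable def triOK (p m q : ℕ) : Bool :=
  Nat.blt p 3795 && (Nat.blt q 3795 && force (sift eisT levsT) (pm (pm (wT p) m) (wTi q)))

/-- The dummy step. -/
def noF : Fct := (99, 0, 0, 0, 0, 0, 0, 0, [], [])

/-- A step by number. -/
noncomputable def getF (F : List (List Fct)) (k : ℕ) : Fct := (F.getD (k / 64) []).getD (k % 64) noF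

/-- The rule of a step. -/
def fR (f : Fct) : ℕ := f.1
/-- The first node. -/
def fI (f : Fct) : ℕ := f.2.1
/-- The trio. -/
def fP (f : Fct) : ℕ := f.2.2.1
/-- The second node. -/
def fJ (f : Fct) : ℕ := f.2.2.2.1
/-- The permutation. -/
def fM (f : Fct) : ℕ := f.2.2.2.2.1
/-- Its inverse. -/
def fMi (f : Fct) : ℕ := f.2.2.2.2.2.1
/-- A number. -/
def fA (f : Fct) : ℕ := f.2.2.2.2.2.2.1
/-- A number. -/
def fB (f : Fct) : ℕ := f.2.2.2.2.2.2.2.1
/-- A list of steps. -/
def fPre (f : Fct) : List ℕ := f.2.2.2.2.2.2.2.2.1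
/-- A list of steps. -/
def fPost (f : Fct) : List ℕ := f.2.2.2.2.2.2.2.2.2

/-- The step is an equality of cosets of nodes. -/
def isSame (f : Fct) : Bool := Nat.beq (fR f) 0 || (Nat.beq (fR f) 2 || Nat.beq (fR f) 5)

/-- The step is an edge. -/
def isEdge (f : Fct) : Bool :=
  Nat.beq (fR f) 1 || (Nat.beq (fR f) 3 || (Nat.beq (fR f) 4 || (Nat.beq (fR f) 6 || Nat.beq (fR f) 7)))

/-- Follow equalities. -/
noncomputable def chn (F : List (List Fct)) (k : ℕ) : List ℕ → ℕ → ℕ → (ℕ → ℕ → Bool) → Bool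
  | [], j, m, K => K j m
  | c :: r, j, m, K => Nat.blt (c / 2) k && isSame (getF F (c / 2)) &&
      (bif Nat.beq (c % 2) 0 then
        Nat.beq (fI (getF F (c / 2))) j &&
          force (fun m' => chn F k r (fJ (getF F (c / 2))) m' K) (pm (fM (getF F (c / 2))) m)
      else
        Nat.beq (fJ (getF F (c / 2))) j &&
          force (fun m' => chn F k r (fI (getF F (c / 2))) m' K) (pm (fMi (getF F (c / 2))) m))

/-- Follow edges backwards along a relator. -/
noncomputable def rchn (F : List (List Fct)) (k g : ℕ) : List ℕ → List ℕ → ℕ → ℕ → (ℕ → ℕ → Bool) → Bool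
  | [], [], j, ni, K => K j ni
  | q :: qs, c :: r, j, ni, K => Nat.beq (c % 2) 0 && Nat.blt (c / 2) k && isEdge (getF F (c / 2)) &&
      Nat.beq (fI (getF F (c / 2))) j && triOK q (pm g ni) (fP (getF F (c / 2))) &&
      force (fun n' => rchn F k g qs r (fJ (getF F (c / 2))) n' K) (pm ni (fMi (getF F (c / 2))))
  | _, _, _, _, _ => false

/-- A base relation. -/
noncomputable def baseAt (a : ℕ) : List ℕ × ℕ × ℕ := bases.getD a ([], 0, 0)

/-- A relator at a node. -/
noncomputable def relOK (F : List (List Fct)) (nb k : ℕ) (S : Fct) : Bool :=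
  Nat.blt (fA S) nb && Nat.blt (fB S) 483 && (Nat.blt (fA S) 10 || Nat.beq (fI S) 0) &&
    match (baseAt (fA S)).1 with
    | [] => false
    | q0 :: qs => force (fun g => triOK q0 g (fP S) &&
        force (fun ni => rchn F k g qs.reverse (fPre S) (fI S) ni fun j n => Nat.beq j (fJ S) && Nat.beq n (fMi S))
          (pm (pm (pm (wTi (fP S)) (hEi (fB S))) (baseAt (fA S)).2.1) g)) (pm (hE (fB S)) (wT (fP S)))

/-- The relation of the subgroup at the first node. -/
noncomputable def rel1OK (F : List (List Fct)) (P : List (List ℕ)) (nb k : ℕ) (S : Fct) : Bool :=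
  Nat.blt (fA S) nb && Nat.ble 10 (fA S) && Nat.blt (fB S) 483 && Nat.beq (fI S) 1 &&
    (P.getD 1 [] == [0]) &&
    match (baseAt (fA S)).1, fPre S with
    | [q0, q1, q2], [c] => Nat.beq (c % 2) 0 && Nat.blt (c / 2) k && isEdge (getF F (c / 2)) &&
        Nat.beq (fI (getF F (c / 2))) 0 && Nat.beq (baseAt (fA S)).2.1 idP &&
        Nat.beq (fJ S) (fJ (getF F (c / 2))) && Nat.beq (fM S) (fM (getF F (c / 2))) &&
        triOK q0 (hE (fB S)) 0 && triOK q1 (hE (fB S)) (fP S) && triOK q2 (hE (fB S)) (fP (getF F (c / 2)))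
    | _, _ => false

/-- The rule of a step is observed. -/
noncomputable def ruleOK (F : List (List Fct)) (P : List (List ℕ)) (nb k : ℕ) (S : Fct) : Bool :=
  match fR S with
  | 0 => Nat.beq (fI S) 0 && Nat.beq (fJ S) 0 && (Nat.beq (fM S) 0x2dac7048354eb4b3ce54891181a57 ||
      Nat.beq (fM S) 0xbaab48846d799209120c395d698968)
  | 1 => Nat.beq (fM S) idP && Nat.blt (fP S) 3795 &&
      (P.getD (fJ S) [] == P.getD (fI S) [] ++ [fP S])
  | 2 => chn F k (fPre S) (fI S) idP fun j m => Nat.beq j (fJ S) && Nat.beq m (fM S)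
  | 3 => Nat.blt (fA S) k && isEdge (getF F (fA S)) &&
      chn F k (fPre S) (fI S) idP fun j0 m0 => Nat.beq j0 (fI (getF F (fA S))) &&
        triOK (fP (getF F (fA S))) m0 (fP S) &&
        chn F k (fPost S) (fJ (getF F (fA S))) idP fun b m1 => Nat.beq b (fJ S) &&
          Nat.beq (pm (pm m1 (fM (getF F (fA S)))) m0) (fM S)
  | 4 => Nat.blt (fA S) k && isEdge (getF F (fA S)) && Nat.beq (fI S) (fJ (getF F (fA S))) &&
      Nat.beq (fJ S) (fI (getF F (fA S))) && Nat.beq (fM S) (fMi (getF F (fA S))) &&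
      triOK (fP (getF F (fA S))) (fMi (getF F (fA S))) (fP S)
  | 5 => Nat.blt (fA S) k && Nat.blt (fB S) k && isEdge (getF F (fA S)) && isEdge (getF F (fB S)) &&
      Nat.beq (fI (getF F (fA S))) (fI (getF F (fB S))) && Nat.beq (fP (getF F (fA S))) (fP (getF F (fB S))) &&
      Nat.beq (fI S) (fJ (getF F (fA S))) && Nat.beq (fJ S) (fJ (getF F (fB S))) &&
      Nat.beq (fM S) (pm (fM (getF F (fB S))) (fMi (getF F (fA S))))
  | 6 => relOK F nb k S
  | 7 => rel1OK F P nb k S
  | _ => false

/-- A step is justified by earlier ones. -/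
noncomputable def stepOK (F : List (List Fct)) (P : List (List ℕ)) (nb k : ℕ) : Bool :=
  Nat.beq (pm (fM (getF F k)) (fMi (getF F k))) idP && Nat.beq (pm (fMi (getF F k)) (fM (getF F k))) idP &&
    ruleOK F P nb k (getF F k)

/-- The covering of the trios at a node. -/
noncomputable def coverOK (F : List (List Fct)) (n i : ℕ) (gens edges : List ℕ) (cv : ℕ) : Bool :=
  (gens.all fun f => Nat.blt f n && isSame (getF F f) && Nat.beq (fI (getF F f)) i && Nat.beq (fJ (getF F f)) i) &&
  (edges.all fun f => Nat.blt f n && isEdge (getF F f) && Nat.beq (fI (getF F f)) i) &&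
  allF (fun p => force (fun e =>
    force (fun g => force (fun a =>
      bif Nat.beq g 63 then Nat.blt a edges.length && Nat.beq (fP (getF F (edges.getD a 0))) p
      else Nat.blt g gens.length && Nat.blt (lk 32 cv a % 4096) (e % 4096) &&
        triOK a (fM (getF F (gens.getD g 0))) p) (e / 4096 % 4096)) (e / 16777216)) (lk 32 cv p)) 3795

/-- The chain of a node. -/
noncomputable def chainOK (F : List (List Fct)) (n i : ℕ) (gl es eis : List ℕ) (d : List (ℕ × ℕ))
    (levs : List (ℕ × List ℕ)) : Bool :=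
  (gl.all fun f => Nat.blt f n && isSame (getF F f) && Nat.beq (fI (getF F f)) i && Nat.beq (fJ (getF F f)) i) &&
    treeOK (gl.map fun f => fM (getF F f)) es eis d && chain es levs

end CfsgLib.Sporadic.CosetCert.J4Index
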