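import Cfsg.Agent.Lib.Sporadic.J4Index.Check

/-!
# Kernel checks of the transversal, the stabiliser of a trio and the conjugating elements
-/

set_option autoImplicit false
set_option maxRecDepth 100000

namespace CfsgLib.Sporadic.CosetCert.J4Index

open OutCert

/-- An entry of the transversal comes from an earlier one. -/
noncomputable def wOK (p : ℕ) : Bool :=
  Nat.beq (pm (wT p) (wTi p)) idP &&
    (bif Nat.beq p 0 then Nat.beq (wT p) idP
    else Nat.blt (lk 16 wPar p / 2) p &&
      Nat.beq (pm (wT (lk 16 wPar p / 2)) (bif Nat.beq (lk 16 wPar p % 2) 0 then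
        0x2dac7048354eb4b3ce54891181a57 else 0xbaab48846d799209120c395d698968)) (wT p))

/-- A conjugating element comes from the transversal or an earlier one. -/
noncomputable def hOK (h : ℕ) : Bool :=
  Nat.beq (pm (hE h) (hEi h)) idP &&
    (bif Nat.blt (lk 16 hCode h) 4096 then Nat.blt (lk 16 hCode h) 3795 && Nat.beq (hE h) (wTi (lk 16 hCode h))
    else Nat.blt ((lk 16 hCode h - 4096) / 2) h &&
      Nat.beq (pm (hE ((lk 16 hCode h - 4096) / 2))
        (gensT.getD ((lk 16 hCode h - 4096) % 2) idP)) (hE h))

theorem w_ok : allF wOK 3795 = true := by decide +kernel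

theorem h_ok : allF hOK 483 = true := by decide +kernel

theorem treeT_ok : treeOK gensT esT eisT treeT = true := by decide +kernel

theorem xy_ok : allF (fun p =>
    triOK p 0x2dac7048354eb4b3ce54891181a57 (lk 12 xyImg p) &&
      triOK p 0xbaab48846d799209120c395d698968 (lk 12 xyImg (3795 + p))) 3795 = true := by decide +kernel

theorem bases_ok : bases.length = 12 ∧ (bases.all fun b => Nat.beq (pm b.2.1 b.2.2) idP) = true := by decide +kernel

end CfsgLib.Sporadic.CosetCert.J4Index
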