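import Cfsg.Agent.Lib.Sporadic.J4Index.Normal

/-!
# The normal subgroup has order `2¹¹` and is mapped faithfully by the representation
-/

set_option autoImplicit false
set_option maxRecDepth 100000

namespace CfsgLib.Sporadic.CosetCert.J4Index

open OutCert BitMatrix Cfsg Cfsg.Spor J4M24 Matrix

attribute [local irreducible] pm idP lk sift wT wTi sW sWi BitMatrix.mulP BitMatrix.ok BitMatrix.one isOne dec matsB

/-- A bit string as a vector. -/
def vecN (v : ℕ) : Fin 112 → ZMod 2 := fun j => if v.testBit j then 1 else 0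

theorem vecN_apL {B : List ℕ} (hB : ok 112 B = true) (v : ℕ) :
    vecN (apL B v) = vecMul (vecN v) (dec 112 B) := by
  funext i
  show (if (apL B v).testBit i then (1 : ZMod 2) else 0) = _
  rw [testBit_apL, (ok_iff.1 hB).1, Finset.sum_range]
  unfold dec
  rfl

theorem vecN_xor (a b : ℕ) : vecN (Nat.xor a b) = vecN a + vecN b := by
  funext j
  show (if (a ^^^ b).testBit j then (1 : ZMod 2) else 0) = vecN a j + vecN b j
  simp only [vecN, Nat.testBit_xor]
  cases a.testBit j <;> cases b.testBit j <;> decide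

theorem vecN_row (A : List ℕ) (i : Fin 112) : vecN (A.getD i 0) = fun j => dec 112 A i j := by
  funext j; unfold vecN dec; rfl

theorem vecN_unit (i : Fin 112) : vecN (2 ^ (i : ℕ)) = fun j => (1 : J4Rep.M112) i j := by
  funext j
  simp only [vecN, Nat.testBit_two_pow, Matrix.one_apply, decide_eq_true_eq, Fin.ext_iff]

/-- The change of a row. -/
noncomputable def dlt (i : Fin 112) (g : J4P) : Fin 112 → ZMod 2 := fun j => repM g i j + (1 : J4Rep.M112) i j

theorem dlt_mul (i : Fin 112) (g h : J4P) : dlt i (g * h) = vecMul (dlt i g) (repM h) + dlt i h := by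
  have e : dlt i g = (fun j => repM g i j) + fun j => (1 : J4Rep.M112) i j := rfl
  rw [e, add_vecMul]
  funext j
  have h1 : vecMul (fun k => (1 : J4Rep.M112) i k) (repM h) j = repM h i j := congrFun (congrFun (one_mul (repM h)) i) j
  have h2 : vecMul (fun k => repM g i k) (repM h) j = repM (g * h) i j := by rw [repM_mul]; rfl
  simp only [Pi.add_apply, h1, h2, dlt]
  have hc : ∀ a : ZMod 2, a + a = 0 := by decide
  rw [add_assoc, ← add_assoc (repM h i j), hc, zero_add]

theorem repM_basis {k : ℕ} (hk : k < 11) : ok 112 (matsB.getD k []) = true ∧ repM (bU k) = dec 112 (matsB.getD k []) := by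
  have h := List.all_eq_true.1 basis_mats k (List.mem_range.2 hk)
  simp only [Bool.and_eq_true] at h
  refine ⟨h.1, ?_⟩
  have h2 := eqProd_spec (mats_ok _) (by intro B hB; rw [List.mem_singleton] at hB; rw [hB]; exact h.1) h.2
  rw [List.map_singleton, List.prod_singleton, ← repM_w4] at h2
  rw [← h2]
  congr 1
  have hb := List.all_eq_true.1 basisW_ok.2.2 k (List.mem_range.2 hk)
  simp only [Bool.and_eq_true] at hb
  have e : el (sW (basis.getD k 0)) = wordG (wordsB.getD k []) := by
    rw [← Nat.eq_of_beq_eq_true hb.2, el_word]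
  have hs : (wordsB.getD k []).all (fun a => Nat.blt a 3) = true := by
    rcases getD_mem_or wordsB k [] with h | h
    · exact List.all_eq_true.1 (show wordsB.all (fun L => L.all fun a => Nat.blt a 3) = true by decide +kernel) _ h
    · rw [h]; rfl
  rw [bWord, w4_append, w4_append, w4_invL, w4_small hs, ← e, ← gU_word]
  rfl

theorem dlt_dif {k : ℕ} (hk : k < 11) (i : Fin 112) : dlt i (bU k) = vecN (dif (matsB.getD k []) i) := by
  rw [dif, vecN_xor, vecN_row, vecN_unit]
  unfold dlt
  rw [(repM_basis hk).2]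
  rfl

theorem dlt_fix {i : Fin 112} (hi : (i : ℕ) ∈ selRows) {g h : J4P} (hg : g ∈ UN) (hh : h ∈ UN) :
    vecMul (dlt i g) (repM h) = dlt i g := by
  have hbase : ∀ a < 11, ∀ h ∈ UN, vecMul (dlt i (bU a)) (repM h) = dlt i (bU a) := by
    intro a ha h hh
    rw [UN_eq] at hh
    induction hh using Subgroup.closure_induction_right with
    | one => rw [repM_one, vecMul_one]
    | mul_right x _ y hy ih =>
      obtain ⟨b, hb, rfl⟩ := hy
      rw [repM_mul, ← vecMul_vecMul, ih, dlt_dif ha, (repM_basis hb).2, ← vecN_apL (repM_basis hb).1]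
      congr 1
      exact Nat.eq_of_beq_eq_true (List.all_eq_true.1 (List.all_eq_true.1 (List.all_eq_true.1 dif_fixed.2 a
        (List.mem_range.2 ha)) b (List.mem_range.2 hb)) _ hi)
    | mul_inv_cancel x _ y hy ih =>
      obtain ⟨b, hb, rfl⟩ := hy
      rw [show (bU b)⁻¹ = bU b from uS_inv _, repM_mul, ← vecMul_vecMul, ih, dlt_dif ha, (repM_basis hb).2,
        ← vecN_apL (repM_basis hb).1]
      congr 1
      exact Nat.eq_of_beq_eq_true (List.all_eq_true.1 (List.all_eq_true.1 (List.all_eq_true.1 dif_fixed.2 a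
        (List.mem_range.2 ha)) b (List.mem_range.2 hb)) _ hi)
  have h0 : dlt i 1 = 0 := by
    funext j
    show repM 1 i j + _ = 0
    rw [repM_one]
    exact (show ∀ a : ZMod 2, a + a = 0 by decide) _
  rw [UN_eq] at hg
  induction hg using Subgroup.closure_induction_right generalizing h with
  | one => rw [h0, zero_vecMul]
  | mul_right x hx y hy ih =>
    obtain ⟨b, hb, rfl⟩ := hy
    have hbU : bU b ∈ UN := BK_le le_rfl (Subgroup.subset_closure ⟨b, hb, rfl⟩)
    rw [dlt_mul, add_vecMul, ih hbU, ih hh, hbase b hb h hh]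
  | mul_inv_cancel x hx y hy ih =>
    obtain ⟨b, hb, rfl⟩ := hy
    have hbU : bU b ∈ UN := BK_le le_rfl (Subgroup.subset_closure ⟨b, hb, rfl⟩)
    rw [show (bU b)⁻¹ = bU b from uS_inv _, dlt_mul, add_vecMul, ih hbU, ih hh, hbase b hb h hh]

/-- The eleven coordinates. -/
noncomputable def phiU (g : J4P) (k : Fin 11) : ZMod 2 :=
  ((detect.getD k []).map fun e => if h : e.1 < 112 ∧ e.2 < 112 then dlt ⟨e.1, h.1⟩ g ⟨e.2, h.2⟩ else 0).sum

theorem detect_rows {k : Fin 11} {e : ℕ × ℕ} (he : e ∈ detect.getD k []) :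
    e.1 ∈ selRows ∧ e.1 < 112 ∧ e.2 < 112 := by
  have hk : (k : ℕ) < detect.length := by rw [detect_ok.1]; exact k.2
  rw [List.getD_eq_getElem _ _ hk] at he
  have h := List.all_eq_true.1 (List.all_eq_true.1 detect_ok.2.1 _ (List.getElem_mem hk)) e he
  simp only [Bool.and_eq_true, Nat.blt_eq, List.contains_iff_mem] at h
  have h2 := List.all_eq_true.1 dif_fixed.1 _ h.1
  simp only [Nat.blt_eq] at h2
  exact ⟨h.1, h2, h.2⟩

theorem phiU_mul {g h : J4P} (hg : g ∈ UN) (hh : h ∈ UN) : phiU (g * h) = phiU g + phiU h := by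
  funext k
  simp only [phiU, Pi.add_apply]
  rw [← List.sum_map_add]
  refine congrArg List.sum (List.map_congr_left fun e he => ?_)
  obtain ⟨hs, h1, h2⟩ := detect_rows he
  rw [dif_pos ⟨h1, h2⟩, dif_pos ⟨h1, h2⟩, dif_pos ⟨h1, h2⟩, dlt_mul, dlt_fix hs hg hh]
  rfl

theorem mark_sum (A : List ℕ) : ∀ ps : List (ℕ × ℕ), (∀ e ∈ ps, e.1 < 112 ∧ e.2 < 112) →
    (ps.map fun e => if h : e.1 < 112 ∧ e.2 < 112 then vecN (dif A e.1) ⟨e.2, h.2⟩ else 0).sum =
      if mark ps A then 1 else 0 := by
  intro ps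
  induction ps with
  | nil => intro _; rfl
  | cons e r ih =>
    intro h
    rw [List.map_cons, List.sum_cons, ih fun x hx => h x (List.mem_cons_of_mem _ hx), dif_pos (h e List.mem_cons_self)]
    show _ = if xor (mark r A) (Nat.testBit (dif A e.1) e.2) then (1 : ZMod 2) else 0
    simp only [vecN]
    cases (dif A e.1).testBit e.2 <;> cases mark r A <;> decide

theorem phiU_basis (l : Fin 11) : phiU (bU l) = Pi.single l 1 := by
  funext k
  have h := List.all_eq_true.1 (List.all_eq_true.1 detect_ok.2.2 k (List.mem_range.2 k.2)) l (List.mem_range.2 l.2)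
  rw [beq_iff_eq] at h
  have e := mark_sum (matsB.getD l []) (detect.getD k []) fun x hx => (detect_rows hx).2
  rw [phiU, show ((detect.getD k []).map fun e => if h : e.1 < 112 ∧ e.2 < 112 then dlt ⟨e.1, h.1⟩ (bU l) ⟨e.2, h.2⟩ else 0) =
      (detect.getD k []).map fun e => if h : e.1 < 112 ∧ e.2 < 112 then vecN (dif (matsB.getD l []) e.1) ⟨e.2, h.2⟩ else 0
    from List.map_congr_left fun x hx => by
      rw [dif_pos (detect_rows hx).2, dif_pos (detect_rows hx).2, dlt_dif l.2], e, h]
  by_cases hkl : k = l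
  · subst hkl; simp
  · have : Nat.beq (k : ℕ) l = false := Bool.eq_false_iff.2 (by simp only [ne_eq, Nat.beq_eq]; omega)
    rw [this, Pi.single_eq_of_ne hkl]
    rfl

instance finite_UN : Finite UN := by rw [UN_eq]; exact (BK_card 11 le_rfl).2

theorem phiU_one : phiU 1 = 0 := by
  have h := phiU_mul (one_mem UN) (one_mem UN)
  rw [one_mul] at h
  exact left_eq_add.1 h |>.trans rfl

theorem phiU_surj : Function.Surjective fun g : UN => phiU g := by
  intro v
  have hb : ∀ l : Fin 11, bU l ∈ UN := fun l => BK_le le_rfl (Subgroup.subset_closure ⟨l, l.2, rfl⟩)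
  have h : ∀ v : Fin 11 → ZMod 2, ∃ g ∈ UN, phiU g = v := by
    intro v
    rw [show v = ∑ l, Pi.single l (v l) from (Finset.univ_sum_single v).symm]
    refine Finset.sum_induction _ (fun v => ∃ g ∈ UN, phiU g = v) ?_ ⟨1, one_mem _, phiU_one⟩ fun l _ => ?_
    · rintro a b ⟨g, hg, rfl⟩ ⟨h, hh, rfl⟩
      exact ⟨g * h, mul_mem hg hh, phiU_mul hg hh⟩
    · rcases (show ∀ a : ZMod 2, a = 0 ∨ a = 1 by decide) (v l) with e | e <;> rw [e]
      · exact ⟨1, one_mem _, by rw [Pi.single_zero, phiU_one]⟩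
      · exact ⟨bU l, hb l, phiU_basis l⟩
  obtain ⟨g, hg, e⟩ := h v
  exact ⟨⟨g, hg⟩, e⟩

theorem card_UN : Nat.card UN = 2048 := by
  apply le_antisymm
  · rw [UN_eq]; exact (BK_card 11 le_rfl).1
  · have h := Nat.card_le_card_of_surjective _ phiU_surj
    rwa [Nat.card_fun, Nat.card_zmod, Nat.card_fin] at h

theorem UN_rep {g : J4P} (hg : g ∈ UN) (h : repM g = 1) : g = 1 := by
  have hb : Function.Bijective fun g : UN => phiU g :=
    phiU_surj.bijective_of_nat_card_le (by rw [card_UN, Nat.card_fun, Nat.card_zmod, Nat.card_fin]; norm_num)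
  have h0 : phiU g = 0 := by
    funext k
    refine List.sum_eq_zero fun x hx => ?_
    obtain ⟨e, he, rfl⟩ := List.mem_map.1 hx
    rw [dif_pos (detect_rows he).2]
    unfold dlt
    rw [h]
    exact (show ∀ a : ZMod 2, a + a = 0 by decide) _
  exact congrArg Subtype.val (hb.1 (a₁ := (⟨g, hg⟩ : UN)) (a₂ := 1) (h0.trans phiU_one.symm))

end CfsgLib.Sporadic.CosetCert.J4Index
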