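import Cfsg.Agent.Lib.Sporadic.J4Index.Base

/-!
# Soundness of products along trees, sifting and counting
-/

set_option autoImplicit false
set_option maxRecDepth 100000

namespace CfsgLib.Sporadic.CosetCert.J4Index

open OutCert Cfsg Cfsg.Spor J4M24

attribute [local irreducible] pm idP lk

/-- Good numbers whose elements lie in a subgroup. -/
def In (K : Subgroup J4P) (n : ℕ) : Prop := Good n ∧ el n ∈ K

theorem In.one (K : Subgroup J4P) : In K idP := ⟨good_id, by rw [el_id]; exact one_mem K⟩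

theorem In.mul {K : Subgroup J4P} {m n : ℕ} (hm : In K m) (hn : In K n) : In K (pm m n) :=
  ⟨hm.1.mul hn.1, by rw [el_mul hm.1 hn.1]; exact mul_mem hm.2 hn.2⟩

theorem In.inv {K : Subgroup J4P} {m n : ℕ} (hm : In K m) (h : Nat.beq (pm m n) idP = true) : In K n :=
  ⟨hm.1.inv h, by rw [el_inv hm.1 h]; exact inv_mem hm.2⟩

theorem getD_mem_or {α : Type*} (l : List α) (k : ℕ) (d : α) : l.getD k d ∈ l ∨ l.getD k d = d := by
  by_cases h : k < l.length
  · rw [List.getD_eq_getElem _ _ h]
    exact Or.inl (List.getElem_mem h)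
  · exact Or.inr (List.getD_eq_default _ _ (by omega))

theorem tree_sound {K : Subgroup J4P} {gens es : List ℕ} (hg : ∀ g ∈ gens, In K g) :
    ∀ (d : List (ℕ × ℕ)) (k : ℕ), tree gens es d k = true → (∀ j < k, In K (es.getD j idP)) →
      ∀ j < k + d.length, In K (es.getD j idP) := by
  intro d
  induction d with
  | nil => intro k _ h j hj; exact h j (by simpa using hj)
  | cons e r ih =>
    obtain ⟨q, g⟩ := e
    intro k ht h j hj
    simp only [tree, Bool.and_eq_true, Nat.blt_eq] at ht
    obtain ⟨hq, hgl, he, hr⟩ := ht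
    refine ih (k + 1) hr (fun i hi => ?_) j (by simp only [List.length_cons] at hj; omega)
    rcases Nat.lt_or_ge i k with hik | hik
    · exact h i hik
    · rw [show i = k by omega, ← Nat.eq_of_beq_eq_true he]
      refine (h q hq).mul (hg _ ?_)
      rw [List.getD_eq_getElem _ _ hgl]
      exact List.getElem_mem hgl

theorem treeOK_sound {K : Subgroup J4P} {gens es eis : List ℕ} {d : List (ℕ × ℕ)} (hg : ∀ g ∈ gens, In K g)
    (h : treeOK gens es eis d = true) : (∀ j, In K (es.getD j idP)) ∧ ∀ j, In K (eis.getD j idP) := by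
  simp only [treeOK, Bool.and_eq_true, allF_iff] at h
  obtain ⟨h0, ht, hl, hli, hinv⟩ := h
  have hl' := Nat.eq_of_beq_eq_true hl
  have hli' := Nat.eq_of_beq_eq_true hli
  have hs : ∀ j, In K (es.getD j idP) := fun j => by
    rcases Nat.lt_or_ge j es.length with hj | hj
    · refine tree_sound hg d 1 ht (fun i hi => ?_) j (by omega)
      rw [show i = 0 by omega, Nat.eq_of_beq_eq_true h0]
      exact In.one K
    · rw [List.getD_eq_default _ _ hj]; exact In.one K
  refine ⟨hs, fun j => ?_⟩
  rcases Nat.lt_or_ge j es.length with hj | hj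
  · exact (hs j).inv (hinv j hj)
  · rw [List.getD_eq_default _ _ (by omega)]; exact In.one K

theorem sift_mem {K : Subgroup J4P} {eis : List ℕ} (he : ∀ v, In K (eis.getD v idP)) :
    ∀ (levs : List Lev) {n : ℕ}, Good n → sift eis levs n = true → el n ∈ K := by
  intro levs
  induction levs with
  | nil =>
    intro n _ h
    rw [sift] at h
    rw [Nat.eq_of_beq_eq_true h, el_id]
    exact one_mem K
  | cons L r ih =>
    intro n hn h
    obtain ⟨b, tbl⟩ := L
    rw [sift] at h
    simp only [force_eq, Bool.and_eq_true] at h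
    have h1 := he (tbl.getD (lk 5 n b) 0 - 1)
    have := mul_mem (ih (hn.mul h1.1) h.2) (inv_mem h1.2)
    rwa [el_mul hn h1.1, mul_inv_cancel_right] at this

theorem chain_card {K : Subgroup J4P} [Finite K] {es : List ℕ} (he : ∀ j, In K (es.getD j idP)) :
    ∀ (levs : List (ℕ × List ℕ)), chain es levs = true → (levs.map fun L => L.2.length).prod ≤ Nat.card K := by
  intro levs h
  suffices ∃ S : Finset ℕ, (∀ n ∈ S, In K n) ∧ S.card = (levs.map fun L => L.2.length).prod ∧
      (∀ n ∈ S, ∀ b < 24, (∀ L ∈ levs, ∀ k ∈ L.2, lk 5 (es.getD k idP) b = b) → lk 5 n b = b) ∧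
      Set.InjOn el (S : Set ℕ) by
    obtain ⟨S, hS, hc, -, hi⟩ := this
    rw [← hc, ← Nat.card_eq_finsetCard]
    refine Nat.card_le_card_of_injective (fun n => (⟨el (n : ℕ), (hS n n.2).2⟩ : K)) ?_
    intro a b hab
    exact Subtype.ext (hi a.2 b.2 (congrArg Subtype.val hab))
  induction levs with
  | nil =>
    refine ⟨{idP}, by simpa using In.one K, by simp, ?_, by simp⟩
    intro n hn b hb _
    rw [Finset.mem_singleton.1 hn]
    exact lk_id hb
  | cons L r ih =>
    classical
    obtain ⟨b, ks⟩ := L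
    simp only [chain, Bool.and_eq_true, Nat.blt_eq, List.all_eq_true, beq_iff_eq] at h
    obtain ⟨hb, -, hd, hfix, hr⟩ := h
    obtain ⟨S, hS, hc, hf, hi⟩ := ih hr
    have hnd : (ks.map fun k => lk 5 (es.getD k idP) b).Nodup := by
      rw [← List.dedup_eq_self]
      exact (List.dedup_sublist _).eq_of_length (by simpa using hd)
    have hks : ks.Nodup := hnd.of_map _
    have hSb : ∀ n ∈ S, lk 5 n b = b := fun n hn =>
      hf n hn b hb fun L hL k hk => Nat.eq_of_beq_eq_true (hfix L hL k hk)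
    have hkey : ∀ p ∈ S ×ˢ ks.toFinset, lk 5 (pm p.1 (es.getD p.2 idP)) b = lk 5 (es.getD p.2 idP) b := by
      intro p hp
      obtain ⟨hp1, -⟩ := Finset.mem_product.1 hp
      rw [lk_pm _ _ hb, hSb _ hp1]
    have hinj : ∀ p ∈ S ×ˢ ks.toFinset, ∀ q ∈ S ×ˢ ks.toFinset,
        el (pm p.1 (es.getD p.2 idP)) = el (pm q.1 (es.getD q.2 idP)) → p = q := by
      intro p hp q hq e
      obtain ⟨hp1, hp2⟩ := Finset.mem_product.1 hp
      obtain ⟨hq1, hq2⟩ := Finset.mem_product.1 hq
      have hv := el_inj ((hS _ hp1).mul (he p.2)).1 ((hS _ hq1).mul (he q.2)).1 e hb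
      rw [hkey p hp, hkey q hq] at hv
      have hk : p.2 = q.2 := List.inj_on_of_nodup_map hnd (List.mem_toFinset.1 hp2) (List.mem_toFinset.1 hq2) hv
      rw [el_mul (hS _ hp1).1 (he _).1, el_mul (hS _ hq1).1 (he _).1, hk] at e
      exact Prod.ext (hi hp1 hq1 (mul_right_cancel e)) hk
    refine ⟨(S ×ˢ ks.toFinset).image fun p => pm p.1 (es.getD p.2 idP), ?_, ?_, ?_, ?_⟩
    · intro n hn
      obtain ⟨p, hp, rfl⟩ := Finset.mem_image.1 hn
      exact (hS _ (Finset.mem_product.1 hp).1).mul (he _)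
    · rw [Finset.card_image_of_injOn fun p hp q hq e => hinj p hp q hq (congrArg el e),
        Finset.card_product, List.toFinset_card_of_nodup hks, hc, List.map_cons, List.prod_cons, mul_comm]
    · intro n hn c hc' hall
      obtain ⟨p, hp, rfl⟩ := Finset.mem_image.1 hn
      obtain ⟨hp1, hp2⟩ := Finset.mem_product.1 hp
      rw [lk_pm _ _ hc', hf _ hp1 c hc' fun L hL => hall L (List.mem_cons_of_mem _ hL),
        hall (b, ks) List.mem_cons_self _ (List.mem_toFinset.1 hp2)]
    · intro m hm n hn e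
      obtain ⟨p, hp, rfl⟩ := Finset.mem_image.1 (Finset.mem_coe.1 hm)
      obtain ⟨q, hq, rfl⟩ := Finset.mem_image.1 (Finset.mem_coe.1 hn)
      rw [hinj p hp q hq e]

end CfsgLib.Sporadic.CosetCert.J4Index
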