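import Cfsg.Agent.Lib.Sporadic.J4Index.StepsH0
import Cfsg.Agent.Lib.Sporadic.J4Index.StepsH1
import Cfsg.Agent.Lib.Sporadic.J4Index.StepsH2
import Cfsg.Agent.Lib.Sporadic.J4Index.StepsH3
import Cfsg.Agent.Lib.Sporadic.J4Index.StepsH4
import Cfsg.Agent.Lib.Sporadic.J4Index.StepsH5
import Cfsg.Agent.Lib.Sporadic.J4Index.StepsH6
import Cfsg.Agent.Lib.Sporadic.J4Index.StepsH7

/-!
# All steps of an enumeration
-/

set_option autoImplicit false
set_option maxRecDepth 100000

namespace CfsgLib.Sporadic.CosetCert.J4Index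

/-- The steps. -/
def stepsH : List (List Fct) := [stepsH0, stepsH1, stepsH2, stepsH3, stepsH4, stepsH5, stepsH6, stepsH7, stepsH8, stepsH9, stepsH10, stepsH11, stepsH12, stepsH13, stepsH14, stepsH15, stepsH16, stepsH17, stepsH18, stepsH19, stepsH20, stepsH21, stepsH22, stepsH23, stepsH24, stepsH25, stepsH26, stepsH27, stepsH28, stepsH29, stepsH30, stepsH31, stepsH32, stepsH33, stepsH34, stepsH35, stepsH36, stepsH37, stepsH38, stepsH39, stepsH40, stepsH41, stepsH42, stepsH43, stepsH44, stepsH45, stepsH46, stepsH47, stepsH48, stepsH49, stepsH50, stepsH51, stepsH52, stepsH53, stepsH54, stepsH55, stepsH56, stepsH57, stepsH58, stepsH59, stepsH60, stepsH61, stepsH62, stepsH63, stepsH64, stepsH65, stepsH66, stepsH67, stepsH68, stepsH69, stepsH70, stepsH71, stepsH72, stepsH73, stepsH74, stepsH75, stepsH76, stepsH77, stepsH78, stepsH79, stepsH80, stepsH81, stepsH82, stepsH83, stepsH84, stepsH85, stepsH86, stepsH87, stepsH88, stepsH89, stepsH90, stepsH91, stepsH92, stepsH93,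 stepsH94, stepsH95, stepsH96, stepsH97, stepsH98, stepsH99, stepsH100, stepsH101, stepsH102, stepsH103, stepsH104, stepsH105, stepsH106, stepsH107, stepsH108, stepsH109, stepsH110, stepsH111]

/-- The paths to the nodes. -/
def pathsH : List (List ℕ) := [[], [0], [0, 3], [0, 12], [0, 3, 1], [0, 3, 12], [0, 3, 8], [0, 3, 14], [0, 3, 46], [0, 12, 16], [0, 12, 54], [0, 12, 109], [0, 12, 42], [0, 12, 275], [0, 12, 1412], [0, 3, 12, 508], [0, 3, 12, 3741], [0, 3, 8, 1829], [0, 3, 14, 1205], [0, 12, 42, 3095]]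

end CfsgLib.Sporadic.CosetCert.J4Index
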