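import Cfsg.Agent.Lib.Sporadic.J4Index.Check
import Cfsg.Agent.Lib.Sporadic.J4Index.StepsH

/-!
# Kernel checks of the steps with numbers from 0
-/

set_option autoImplicit false
set_option maxRecDepth 100000

namespace CfsgLib.Sporadic.CosetCert.J4Index

theorem stepsH_ok0 : (List.range' 0 1800).all (stepOK stepsH pathsH 12) = true := by decide +kernel

end CfsgLib.Sporadic.CosetCert.J4Index
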