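import Cfsg.Agent.Lib.Sporadic.J4Index.Bases
import Cfsg.Agent.Lib.Sporadic.J4Index.StepCheckH0
import Cfsg.Agent.Lib.Sporadic.J4Index.StepCheckH1
import Cfsg.Agent.Lib.Sporadic.J4Index.StepCheckH2
import Cfsg.Agent.Lib.Sporadic.J4Index.StepCheckH3
import Cfsg.Agent.Lib.Sporadic.J4Index.NodeCheck0
import Cfsg.Agent.Lib.Sporadic.J4Index.NodeCheck1
import Cfsg.Agent.Lib.Sporadic.J4Index.NodeCheck2
import Cfsg.Agent.Lib.Sporadic.J4Index.NodeCheck3
import Cfsg.Agent.Lib.Sporadic.J4Index.NodeCheck4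
import Mathlib.GroupTheory.Index

/-!
# The subgroup generated by `x`, `y`, `u` has index at most 173067389
-/

set_option autoImplicit false
set_option maxRecDepth 100000

namespace CfsgLib.Sporadic.CosetCert.J4Index

open OutCert Cfsg Cfsg.Spor J4M24 CfsgLib.SmallGroups.Golay CfsgLib.SmallGroups.M24Group
  CfsgLib.Sporadic.MathieuMultiplier

attribute [local irreducible] pm idP lk sift wT wTi hE hEi stepsH pathsH covers chains triOK coverOK chainOK
  wTn wTin hEn hEin xyImg gensT esT eisT treeT levsT bases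

/-- The subgroup generated by `x`, `y` and `u`. -/
noncomputable def HS : Subgroup J4P := Subgroup.closure {gX, gY, gU}

theorem XY_le_HS : XY ≤ HS := Subgroup.closure_mono (by
  intro g hg
  rcases hg with rfl | rfl
  · exact Or.inl rfl
  · exact Or.inr (Or.inl rfl))

theorem steps_all : ∀ k < 7163, stepOK stepsH pathsH 12 k = true := by
  intro k hk
  have h : ∀ a n, (List.range' a n).all (stepOK stepsH pathsH 12) = true → a ≤ k → k < a + n →
      stepOK stepsH pathsH 12 k = true := fun a n h h1 h2 =>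
    List.all_eq_true.1 h k (List.mem_range'_1.2 ⟨h1, h2⟩)
  rcases Nat.lt_or_ge k 1800 with h1 | h1
  · exact h _ _ stepsH_ok0 (by omega) (by omega)
  rcases Nat.lt_or_ge k 3600 with h2 | h2
  · exact h _ _ stepsH_ok1 h1 (by omega)
  rcases Nat.lt_or_ge k 5400 with h3 | h3
  · exact h _ _ stepsH_ok2 h2 (by omega)
  · exact h _ _ stepsH_ok3 h3 (by omega)

theorem node_all (i : ℕ) (hi : i < 20) : nodeOK i = true := by
  obtain ⟨a0, a1, a2, a3⟩ := nodes_ok0
  obtain ⟨b0, b1, b2, b3⟩ := nodes_ok1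
  obtain ⟨c0, c1, c2, c3⟩ := nodes_ok2
  obtain ⟨d0, d1, d2, d3⟩ := nodes_ok3
  obtain ⟨e0, e1, e2, e3⟩ := nodes_ok4
  interval_cases i <;> assumption

theorem pathH_zero : pathsH.getD 0 [] = [] := by decide +kernel

theorem holdsH : ∀ k < 7163, Holds HS stepsH pathsH k :=
  all_holds (hyp_of XY_le_HS (Subgroup.subset_closure (by simp)) pathH_zero) steps_all

theorem gNH_zero : gN pathsH 0 = 1 := by rw [gN, pathH_zero]; rfl

theorem eqv_inv_right {g s : J4P} (h : Eqv HS g (g * s)) (P : List (List ℕ)) (i : ℕ) (e : g = gN P i) :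
    Eqv HS (gN P i * s⁻¹) (gN P i) := by
  subst e
  have := h.mul s⁻¹
  rwa [mul_inv_cancel_right] at this

theorem el_mem {n : ℕ} (h : Good n) : el n ∈ XY := by
  obtain ⟨g, hg, -⟩ := h.pr
  have : pairs.map (MonoidHom.fst J4P M24) ≤ XY := by
    rw [pairs, MonoidHom.map_closure, Subgroup.closure_le]
    rintro _ ⟨_, ⟨k, hk, rfl⟩, rfl⟩
    have hk' : k = 0 ∨ k = 1 := by have : k < 2 := hk; omega
    rcases hk' with rfl | rfl
    · exact Subgroup.subset_closure (Or.inl rfl)
    · exact Subgroup.subset_closure (Or.inr rfl)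
  exact this ⟨_, hg, rfl⟩

/-- Every edge is covered. -/
theorem edge_all {i : ℕ} (hi : i < 20) : ∀ p < 3795, ∃ j m, j < 20 ∧ In XY m ∧
    Eqv HS (gN pathsH i * tP p) (gN pathsH j * el m) := by
  have hn := node_all i hi
  unfold nodeOK at hn
  split at hn
  rename_i gens edges cv gl es eis d levs hc hch
  clear hc hch
  rw [Bool.and_eq_true] at hn
  obtain ⟨hcov, -⟩ := hn
  simp only [coverOK, Bool.and_eq_true, List.all_eq_true, allF_iff, force_eq, Nat.blt_eq] at hcov
  obtain ⟨⟨hg, he⟩, hp⟩ := hcov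
  suffices ∀ z p, lk 32 cv p % 4096 = z → p < 3795 → ∃ j m, j < 20 ∧ In XY m ∧
      Eqv HS (gN pathsH i * tP p) (gN pathsH j * el m) from fun p hp => this _ p rfl hp
  intro z
  induction z using Nat.strong_induction_on with
  | _ z ih =>
    intro p hz hlt
    have h := hp p hlt
    cases hb : Nat.beq (lk 32 cv p / 16777216) 63 with
    | true =>
      rw [hb] at h
      simp only [cond_true, Bool.and_eq_true, Nat.blt_eq] at h
      obtain ⟨ha, hP⟩ := h
      obtain ⟨⟨hk, hE⟩, hI⟩ := he _ (List.getElem_mem ha)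
      rw [List.getD_eq_getElem _ _ ha] at hP
      obtain ⟨g1, -, -, -, g5⟩ := holdsH _ hk
      obtain ⟨-, g5⟩ := g5 hE
      have hj := List.all_eq_true.1 edges_ok _ (List.mem_range.2 hk)
      rw [hE] at hj
      simp only [Bool.not_true, Bool.false_or, Nat.blt_eq] at hj
      refine ⟨_, _, hj, ⟨g1, el_mem g1⟩, ?_⟩
      have hI := Nat.eq_of_beq_eq_true hI
      have hP := Nat.eq_of_beq_eq_true hP
      simp only [hI, hP] at g5
      exact g5
    | false =>
      rw [hb] at h
      simp only [cond_false, Bool.and_eq_true, Nat.blt_eq] at h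
      obtain ⟨⟨hgl, hpos⟩, ht⟩ := h
      obtain ⟨⟨⟨hk, hS⟩, hI⟩, hJ⟩ := hg _ (List.getElem_mem hgl)
      rw [List.getD_eq_getElem _ _ hgl] at ht
      obtain ⟨g1, -, -, g4, -⟩ := holdsH _ hk
      have g4 := g4 hS
      rw [Nat.eq_of_beq_eq_true hI, Nat.eq_of_beq_eq_true hJ] at g4
      obtain ⟨ha, -, et⟩ := triOK_sound g1 ht
      obtain ⟨j, m, hj, hm, hEq⟩ := ih _ (hz ▸ hpos) _ rfl ha
      refine ⟨j, pm m (fM (getF stepsH gens[lk 32 cv p / 16777216])), hj, hm.mul ⟨g1, el_mem g1⟩, ?_⟩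
      rw [et, el_mul hm.1 g1, ← mul_assoc, ← mul_assoc, ← mul_assoc]
      have h1 := eqv_inv_right g4 pathsH i rfl
      exact ((h1.mul (tP _)).trans hEq).mul _

/-- Conjugation permutes the conjugates of `t`. -/
theorem conj_tP {a : J4P} (ha : a ∈ XY) : (∀ p < 3795, ∃ q < 3795, a⁻¹ * tP p * a = tP q) ∧
    (∀ p < 3795, ∃ q < 3795, a * tP p * a⁻¹ = tP q) := by
  have hxy := allF_iff.1 xy_ok
  have hgen : ∀ a ∈ ({gX, gY} : Set J4P), ∀ p < 3795, ∃ q < 3795, a⁻¹ * tP p * a = tP q := by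
    rintro a (rfl | rfl) p hp <;> have h := hxy p hp <;> simp only [Bool.and_eq_true] at h
    · obtain ⟨-, hq, e⟩ := triOK_sound (m := pX) ⟨_, pr_x⟩ h.1
      exact ⟨_, hq, by rw [e, pr_x.el_eq]⟩
    · obtain ⟨-, hq, e⟩ := triOK_sound (m := pY) ⟨_, pr_y⟩ h.2
      exact ⟨_, hq, by rw [e, pr_y.el_eq]⟩
  induction ha using Subgroup.closure_induction with
  | mem a h =>
    refine ⟨hgen a h, fun p hp => ?_⟩
    obtain ⟨h2, h3, -⟩ := rels
    rcases h with rfl | rfl
    · rw [show gX = gX⁻¹ from (inv_eq_of_mul_eq_one_right (by rw [← pow_two]; exact h2)).symm, inv_inv]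
      rw [show gX⁻¹ = gX from inv_eq_of_mul_eq_one_right (by rw [← pow_two]; exact h2)] at *
      simpa [show gX⁻¹ = gX from inv_eq_of_mul_eq_one_right (by rw [← pow_two]; exact h2)] using hgen gX (Or.inl rfl) p hp
    · obtain ⟨q, hq, e⟩ := hgen gY (Or.inr rfl) p hp
      obtain ⟨q', hq', e'⟩ := hgen gY (Or.inr rfl) q hq
      refine ⟨q', hq', ?_⟩
      have hy : gY⁻¹ = gY * gY := inv_eq_of_mul_eq_one_right (by rw [← mul_assoc, ← pow_two, ← pow_succ]; exact h3)
      rw [← e', ← e]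
      calc gY * tP p * gY⁻¹ = (gY⁻¹)⁻¹ * tP p * gY⁻¹ := by rw [inv_inv]
        _ = (gY * gY)⁻¹ * tP p * (gY * gY) := by rw [hy]
        _ = _ := by group
  | one => exact ⟨fun p hp => ⟨p, hp, by simp⟩, fun p hp => ⟨p, hp, by simp⟩⟩
  | mul a b _ _ iha ihb =>
    refine ⟨fun p hp => ?_, fun p hp => ?_⟩
    · obtain ⟨q, hq, e⟩ := iha.1 p hp
      obtain ⟨r, hr, e'⟩ := ihb.1 q hq
      exact ⟨r, hr, by rw [← e', ← e]; group⟩
    · obtain ⟨q, hq, e⟩ := ihb.2 p hp
      obtain ⟨r, hr, e'⟩ := iha.2 q hq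
      exact ⟨r, hr, by rw [← e', ← e]; group⟩
  | inv a _ iha =>
    refine ⟨fun p hp => ?_, fun p hp => ?_⟩
    · simpa using iha.2 p hp
    · simpa using iha.1 p hp

theorem gens_top : Subgroup.closure ({gX, gY, gT} : Set J4P) = ⊤ := by
  rw [← PresentedGroup.closure_range_of]
  congr 1
  ext g
  constructor
  · rintro (rfl | rfl | rfl) <;> exact ⟨_, rfl⟩
  · rintro ⟨k, rfl⟩
    cases k
    · exact Or.inl rfl
    · exact Or.inr (Or.inl rfl)
    · exact Or.inr (Or.inr rfl)

/-- Every coset is one of the twenty times an element of the subgroup of `x` and `y`. -/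
theorem coset_all (z : J4P) : ∃ i : Fin 20, ∃ n ∈ XY, Eqv HS z (gN pathsH i * n) := by
  let C : J4P → Prop := fun z => ∃ i : Fin 20, ∃ n ∈ XY, Eqv HS z (gN pathsH i * n)
  have hn : ∀ z, C z → ∀ a ∈ XY, C (z * a) := fun z ⟨i, n, hn, e⟩ a ha =>
    ⟨i, n * a, mul_mem hn ha, by rw [← mul_assoc]; exact e.mul a⟩
  have ht : ∀ z, C z → C (z * gT) := by
    rintro z ⟨i, n, hn, e⟩
    obtain ⟨q, hq, eq⟩ := (conj_tP hn).2 0 (by norm_num)
    rw [tP_zero] at eq
    obtain ⟨j, m, hj, hm, hE⟩ := edge_all i.2 q hq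
    refine ⟨⟨j, hj⟩, el m * n, mul_mem hm.2 hn, (e.mul gT).trans ?_⟩
    have := hE.mul n
    rw [← eq] at this
    simpa only [mul_assoc, inv_mul_cancel, mul_one] using this
  have hz : z ∈ Subgroup.closure ({gX, gY, gT} : Set J4P) := by rw [gens_top]; exact Subgroup.mem_top _
  show C z
  induction hz using Subgroup.closure_induction_right with
  | one => exact ⟨0, 1, one_mem _, by rw [show ((0 : Fin 20) : ℕ) = 0 from rfl, gNH_zero, one_mul]; exact Eqv.refl _⟩
  | mul_right x _ y hy ih =>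
    rcases hy with rfl | rfl | rfl
    · exact hn x ih _ (Subgroup.subset_closure (by simp))
    · exact hn x ih _ (Subgroup.subset_closure (by simp))
    · exact ht x ih
  | mul_inv_cancel x _ y hy ih =>
    rcases hy with rfl | rfl | rfl
    · exact hn x ih _ (inv_mem (Subgroup.subset_closure (by simp)))
    · exact hn x ih _ (inv_mem (Subgroup.subset_closure (by simp)))
    · rw [gT_inv]; exact ht x ih

theorem card_XY_eq : Nat.card XY = 244823040 := by
  have hmap : pairs.map (MonoidHom.fst J4P M24) = XY := by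
    rw [pairs, MonoidHom.map_closure]
    congr 1
    ext g
    constructor
    · rintro ⟨_, ⟨k, hk, rfl⟩, rfl⟩
      have hk' : k = 0 ∨ k = 1 := by have : k < 2 := hk; omega
      rcases hk' with rfl | rfl
      · exact Or.inl rfl
      · exact Or.inr rfl
    · rintro (rfl | rfl)
      · exact ⟨sBoth 0, ⟨0, by norm_num, rfl⟩, rfl⟩
      · exact ⟨sBoth 1, ⟨1, by norm_num, rfl⟩, rfl⟩
  rw [← hmap, Nat.card_congr (MulEquiv.ofBijective (((MonoidHom.fst J4P M24).subgroupMap pairs))
    ⟨(injective_iff_map_eq_one _).2 fun z hz => ?_, MonoidHom.subgroupMap_surjective _ _⟩).toEquiv.symm,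
    Nat.card_congr (Equiv.ofBijective _ pairs_bij), card_M24]
  have h1 : (z : J4P × M24).1 = 1 := congrArg Subtype.val hz
  have h2 := pairs_rep z (by rw [h1, map_one])
  exact Subtype.ext (Prod.ext h1 h2)

instance finite_XY : Finite XY := Nat.finite_of_card_ne_zero (by rw [card_XY_eq]; norm_num)

/-- The elements of `⟨x, y⟩` fixing the coset of a node. -/
noncomputable def nodeStab (i : Fin 20) : Subgroup XY :=
  (HS.comap (MulAut.conj (gN pathsH i)).toMonoidHom).subgroupOf XY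

/-- The orders of the stabilisers. -/
def stabOrd : List ℕ := [244823040, 64512, 768, 48, 128, 3, 16, 6, 192, 512, 32, 20, 96, 96, 1152, 253, 4608,
  21504, 9216, 138240]

theorem card_stab (i : Fin 20) : stabOrd.getD i 0 ≤ Nat.card (nodeStab i) := by
  have hn := node_all i i.2
  unfold nodeOK at hn
  split at hn
  rename_i gens edges cv gl es eis d levs hc hch
  clear hc
  simp only [chainOK, Bool.and_eq_true, List.all_eq_true, Nat.blt_eq] at hn
  obtain ⟨-, ⟨hgl, htree⟩, hchain⟩ := hn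
  let K : Subgroup J4P := (nodeStab i).map XY.subtype
  have hK : ∀ n, Good n → Eqv HS (gN pathsH i) (gN pathsH i * el n) → In K n := by
    intro n hn e
    refine ⟨hn, ⟨⟨el n, el_mem hn⟩, ?_, rfl⟩⟩
    show gN pathsH i * el n * (gN pathsH i)⁻¹ ∈ HS
    exact e.symm
  have hg : ∀ g ∈ gl.map fun f => fM (getF stepsH f), In K g := by
    intro g hg
    obtain ⟨f, hf, rfl⟩ := List.mem_map.1 hg
    obtain ⟨⟨⟨hk, hS⟩, hI⟩, hJ⟩ := hgl f hf
    obtain ⟨g1, -, -, g4, -⟩ := holdsH _ hk
    have g4 := g4 hS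
    rw [Nat.eq_of_beq_eq_true hI, Nat.eq_of_beq_eq_true hJ] at g4
    exact hK _ g1 g4
  have : Finite K := Finite.of_surjective (fun a : nodeStab i => (⟨a.1.1, a.1, a.2, rfl⟩ : K))
    (by rintro ⟨_, a, ha, rfl⟩; exact ⟨⟨a, ha⟩, rfl⟩)
  have hc := chain_card (K := K) (treeOK_sound hg htree).1 levs hchain
  rw [show Nat.card K = Nat.card (nodeStab i) from
    Subgroup.card_map_of_injective XY.subtype_injective] at hc
  refine le_trans (le_of_eq ?_) hc
  have h1 := congrArg (fun L : List ℕ => L.getD i 0) chains_prod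
  rw [List.getD_eq_getElem _ _ (by simp), List.getElem_map, List.getElem_range] at h1
  rw [show levs = (chains.getD (i : ℕ) ([], [], [], [], [])).2.2.2.2 by rw [hch], h1]
  rfl

/-- The coset of an element of a node. -/
noncomputable def cosetMap : (Σ i : Fin 20, XY ⧸ nodeStab i) → J4P ⧸ HS := fun x =>
  Quotient.liftOn' x.2 (fun n => (((n : J4P) * (gN pathsH x.1)⁻¹ : J4P) : J4P ⧸ HS)) fun a b h => by
    rw [QuotientGroup.leftRel_apply] at h
    rw [QuotientGroup.eq]
    simp only [mul_inv_rev, inv_inv]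
    have := h
    simp only [nodeStab, Subgroup.mem_subgroupOf, Subgroup.mem_comap] at this
    simpa [mul_assoc] using this

theorem cosetMap_surjective : Function.Surjective cosetMap := by
  intro c
  induction c using QuotientGroup.induction_on with
  | _ z =>
    obtain ⟨i, n, hn, e⟩ := coset_all z⁻¹
    refine ⟨⟨i, ((⟨n⁻¹, inv_mem hn⟩ : XY) : XY ⧸ nodeStab i)⟩, ?_⟩
    show ((n⁻¹ * (gN pathsH i)⁻¹ : J4P) : J4P ⧸ HS) = (z : J4P ⧸ HS)
    rw [QuotientGroup.eq]
    have := e.symm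
    simpa [Eqv, mul_assoc] using this

theorem sum_bound : (∑ i : Fin 20, 244823040 / stabOrd.getD i 0) = 173067389 := by decide +kernel

theorem quot_le (i : Fin 20) : Nat.card (XY ⧸ nodeStab i) ≤ 244823040 / stabOrd.getD i 0 := by
  have h := (nodeStab i).card_mul_index
  rw [card_XY_eq] at h
  have hp : 0 < stabOrd.getD i 0 := (show ∀ j : Fin 20, 0 < stabOrd.getD j 0 by decide +kernel) i
  rw [show Nat.card (XY ⧸ nodeStab i) = (nodeStab i).index from rfl, Nat.le_div_iff_mul_le hp, ← h, mul_comm]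
  exact Nat.mul_le_mul_right _ (card_stab i)

theorem index_le : HS.index ≤ 173067389 ∧ HS.index ≠ 0 := by
  classical
  have hc := Nat.card_le_card_of_surjective _ cosetMap_surjective
  rw [Nat.card_sigma] at hc
  refine ⟨le_trans hc (sum_bound ▸ Finset.sum_le_sum fun i _ => quot_le i), ?_⟩
  have : Finite (J4P ⧸ HS) := Finite.of_surjective _ cosetMap_surjective
  exact Subgroup.index_ne_zero_of_finite

end CfsgLib.Sporadic.CosetCert.J4Index
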