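import Cfsg.Agent.Lib.Sporadic.J4Index.Check
import Cfsg.Agent.Lib.Sporadic.J4Index.StepsH
import Cfsg.Agent.Lib.Sporadic.J4Index.NodeData

/-!
# The checks for one node
-/

set_option autoImplicit false
set_option maxRecDepth 100000

namespace CfsgLib.Sporadic.CosetCert.J4Index

/-- The covering and the chain of a node are right. -/
noncomputable def nodeOK (i : ℕ) : Bool :=
  match covers.getD i ([], [], 0), chains.getD i ([], [], [], [], []) with
  | (gens, edges, cv), (gl, es, eis, d, levs) =>
    coverOK stepsH 7163 i gens edges cv && chainOK stepsH 7163 i gl es eis d levs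

theorem edges_ok : ((List.range 7163).all fun k =>
    !(isEdge (getF stepsH k)) || Nat.blt (fJ (getF stepsH k)) 20) = true := by decide +kernel

theorem chains_prod : (List.range 20).map (fun i =>
    (((chains.getD i ([], [], [], [], [])).2.2.2.2).map fun L => L.2.length).prod) =
    [244823040, 64512, 768, 48, 128, 3, 16, 6, 192, 512, 32, 20, 96, 96, 1152, 253, 4608, 21504, 9216, 138240] := by
  decide +kernel

end CfsgLib.Sporadic.CosetCert.J4Index
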