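import Cfsg.Agent.Lib.Sporadic.J4Index.NodeCheck

/-!
# Kernel checks of the nodes with numbers from 16
-/

set_option autoImplicit false
set_option maxRecDepth 100000

namespace CfsgLib.Sporadic.CosetCert.J4Index

theorem nodes_ok4 : nodeOK 16 = true ∧ nodeOK 17 = true ∧ nodeOK 18 = true ∧ nodeOK 19 = true := by
  decide +kernel

end CfsgLib.Sporadic.CosetCert.J4Index
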