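import Cfsg.Agent.Lib.Sporadic.J4Index.Uni

/-!
# The subgroup generated by `x`, `y`, `u` is `2¹¹:M₂₄`
-/

set_option autoImplicit false
set_option maxRecDepth 100000

namespace CfsgLib.Sporadic.CosetCert.J4Index

open OutCert BitMatrix Cfsg Cfsg.Spor J4M24 CfsgLib.SmallGroups.Golay CfsgLib.SmallGroups.M24Group
  CfsgLib.Sporadic.MathieuMultiplier

attribute [local irreducible] pm idP lk sift wT wTi hE hEi stepsN pathsN sW sWi eisA esA gensA treeA levsA
  sWn sWin sImg lineData comOrd spanOrd BitMatrix.mulP BitMatrix.ok BitMatrix.one isOne dec triOK sxOK lA lB lC oPos oLine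

theorem goal_trios : goal0.1.map Prod.fst = [2451, 421, 0, 2479, 1199, 0] ∧ goal0.2.1.map Prod.fst = [2137, 983, 0] ∧
    goal1.1.map Prod.fst = [83, 65, 52, 105, 82, 42] ∧ goal1.2.1.map Prod.fst = [2570, 2559, 23] ∧
    triOK 83 (sW 213) 2451 = true ∧ triOK 65 (sW 213) 421 = true ∧ triOK 52 (sW 213) 0 = true ∧
    triOK 83 (sW 199) 2479 = true ∧ triOK 65 (sW 199) 1199 = true ∧ triOK 52 (sW 199) 0 = true ∧
    triOK 83 (sW 153) 2137 = true ∧ triOK 65 (sW 153) 983 = true ∧ triOK 52 (sW 153) 0 = true ∧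
    triOK 83 (sW 1) 105 = true ∧ triOK 65 (sW 1) 82 = true ∧ triOK 52 (sW 1) 42 = true ∧
    triOK 83 (sW 933) 2570 = true ∧ triOK 65 (sW 933) 2559 = true ∧ triOK 52 (sW 933) 23 = true := by
  decide +kernel

theorem seeds_prod : uS 213 * uS 199 = uS 153 ∧ uS 0 * uS 1 = uS 933 := by
  obtain ⟨e1, e2, e3, e4, a0, a1, a2, b0, b1, b2, c0, c1, c2, d0, d1, d2, f0, f1, f2⟩ := goal_trios
  constructor
  · have h := goal_sound goals_ok.1 (fun e he => by simp only [List.mem_append] at he ⊢; tauto) goal_mats.1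
    rw [e1, e2] at h
    rw [← seed_prod (by norm_num) a0 a1 a2, ← seed_prod (by norm_num) b0 b1 b2, ← seed_prod (by norm_num) c0 c1 c2]
    simpa [mul_assoc] using h
  · have h := goal_sound goals_ok.2.1 (fun e he => by simp only [List.mem_append] at he ⊢; tauto) goal_mats.2
    rw [e3, e4] at h
    rw [← seed_prod (by norm_num) d0 d1 d2, ← seed_prod (by norm_num) f0 f1 f2, uS_zero, gU_eq]
    simpa [mul_assoc] using h

/-- The product of the first two of a line is the third. -/
theorem line_prod : ∀ k < nLines, lA k < 1771 ∧ lB k < 1771 ∧ lC k < 1771 ∧ uS (lA k) * uS (lB k) = uS (lC k) := by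
  intro k
  induction k using Nat.strong_induction_on with
  | _ k ih =>
    intro hk
    obtain ⟨a0, b0, c0, a1, b1, c1, -⟩ := seeds_eq
    have h := allF_iff.1 lines_ok k hk
    rcases Nat.lt_or_ge k 2 with h2 | h2
    · interval_cases k
      · rw [a0, b0, c0]; exact ⟨by norm_num, by norm_num, by norm_num, seeds_prod.1⟩
      · rw [a1, b1, c1]; exact ⟨by norm_num, by norm_num, by norm_num, seeds_prod.2⟩
    · rw [show Nat.blt k 2 = false from Bool.eq_false_iff.2 (by simp only [ne_eq, Nat.blt_eq]; omega), Bool.false_or] at h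
      simp only [lineOK, force_eq, Bool.and_eq_true, Nat.blt_eq, Nat.beq_eq] at h
      obtain ⟨⟨⟨⟨⟨⟨hq, ha⟩, hb⟩, hc⟩, ea⟩, eb⟩, ec⟩ := h
      obtain ⟨-, -, -, hp⟩ := ih _ hq (by omega)
      obtain ⟨xa, la, ya, ma⟩ := img_spec ha
      obtain ⟨xb, lb, yb, mb⟩ := img_spec hb
      obtain ⟨xc, lc, yc, mc⟩ := img_spec hc
      rw [← ea, ← eb, ← ec]
      rcases Nat.mod_two_eq_zero_or_one (lk 64 lineData k / 8589934592) with h0 | h0
      · simp only [h0, mul_zero, zero_add]
        refine ⟨la, lb, lc, ?_⟩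
        rw [xa, xb, xc, ← hp]; group
      · simp only [h0, mul_one]
        refine ⟨ma, mb, mc, ?_⟩
        rw [ya, yb, yc, ← hp]; group

theorem uS_sq {k : ℕ} : uS k * uS k = 1 := by
  obtain ⟨-, -, -, -, -, -, hlt, hs⟩ := seeds_eq
  have h : ∀ z ∈ swapped, uS (lA z) * uS (lB z) = uS (lC z) := fun z hz =>
    (line_prod z (by simpa using List.all_eq_true.1 hlt z hz)).2.2.2
  obtain ⟨s0, s1, s2, s3, e⟩ : ∃ s0 s1 s2 s3, swapped = [s0, s1, s2, s3] := ⟨_, _, _, _, rfl⟩
  rw [e] at hs h
  simp only [List.map_cons, List.map_nil, List.cons.injEq, Prod.mk.injEq, and_true] at hs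
  obtain ⟨⟨a0, b0, c0⟩, ⟨a1, b1, c1⟩, -⟩ := hs
  have h0 := h s0 (by simp)
  have h1 := h s1 (by simp)
  rw [a0, b0, c0] at h0
  rw [a1, b1, c1] at h1
  have hp := seeds_prod.1
  have h213 : uS 213 * uS 213 = 1 := by
    have : uS 213 * uS 213 * uS 199 = uS 199 := by rw [mul_assoc, hp, h1]
    simpa using this
  have hU : gU * gU = 1 := by
    have e : uS 213 * uS 213 = (el (sW 213))⁻¹ * (gU * gU) * el (sW 213) := by rw [uS]; group
    rw [e] at h213
    calc gU * gU = el (sW 213) * ((el (sW 213))⁻¹ * (gU * gU) * el (sW 213)) * (el (sW 213))⁻¹ := by group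
      _ = 1 := by rw [h213, mul_one, mul_inv_cancel]
  calc uS k * uS k = (el (sW k))⁻¹ * (gU * gU) * el (sW k) := by rw [uS]; group
    _ = 1 := by rw [hU, mul_one, inv_mul_cancel]

theorem uS_inv (k : ℕ) : (uS k)⁻¹ = uS k := inv_eq_of_mul_eq_one_right uS_sq

/-- A line: three commuting members, each the product of the other two. -/
theorem line_full {k : ℕ} (hk : k < nLines) : Commute (uS (lA k)) (uS (lB k)) ∧
    uS (lA k) * uS (lB k) = uS (lC k) ∧ uS (lA k) * uS (lC k) = uS (lB k) ∧ uS (lB k) * uS (lC k) = uS (lA k) := by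
  obtain ⟨-, -, -, h⟩ := line_prod k hk
  have hc : Commute (uS (lA k)) (uS (lB k)) := by
    show uS (lA k) * uS (lB k) = uS (lB k) * uS (lA k)
    conv_rhs => rw [← uS_inv (lB k), ← uS_inv (lA k), ← mul_inv_rev, h, uS_inv, ← h]
  refine ⟨hc, h, ?_, ?_⟩
  · rw [← h, ← mul_assoc, uS_sq, one_mul]
  · rw [← h, hc.eq, ← mul_assoc, uS_sq, one_mul]

theorem commute_zero : ∀ v < 1771, Commute (uS 0) (uS v) := by
  suffices ∀ z v, oPos comOrd v = z → v < 1771 → Commute (uS 0) (uS v) from fun v hv => this _ v rfl hv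
  intro z
  induction z using Nat.strong_induction_on with
  | _ z ih =>
    intro v hz hv
    have h := allF_iff.1 orders_ok v hv
    simp only [comOK, force_eq, Bool.and_eq_true, Bool.or_eq_true, Nat.blt_eq, earlier, Nat.beq_eq] at h
    rcases h.1 with h0 | ⟨hk, hr⟩
    · subst h0; exact Commute.refl _
    obtain ⟨hcm, hab, hac, hbc⟩ := line_full hk
    obtain ⟨la, lb, lc, -⟩ := line_prod _ hk
    rcases hr with ((hr | hr) | hr) | hr
    · have cac : Commute (uS (lA (oLine comOrd v))) (uS (lC (oLine comOrd v))) := by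
        rw [← hab]; exact (Commute.refl _).mul_right hcm
      have cbc : Commute (uS (lB (oLine comOrd v))) (uS (lC (oLine comOrd v))) := by
        rw [← hab]; exact hcm.symm.mul_right (Commute.refl _)
      rcases hr.1 with (e | e) | e <;> rcases hr.2 with (e' | e') | e' <;> rw [← e'] <;> nth_rewrite 1 [← e] <;>
        first | exact Commute.refl _ | exact hcm | exact hcm.symm | exact cac | exact cac.symm | exact cbc | exact cbc.symm
    · obtain ⟨⟨e, p1⟩, p2⟩ := hr
      rw [← e, ← hbc]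
      exact (ih _ (hz ▸ p1) _ rfl lb).mul_right (ih _ (hz ▸ p2) _ rfl lc)
    · obtain ⟨⟨e, p1⟩, p2⟩ := hr
      rw [← e, ← hac]
      exact (ih _ (hz ▸ p1) _ rfl la).mul_right (ih _ (hz ▸ p2) _ rfl lc)
    · obtain ⟨⟨e, p1⟩, p2⟩ := hr
      rw [← e, ← hab]
      exact (ih _ (hz ▸ p1) _ rfl la).mul_right (ih _ (hz ▸ p2) _ rfl lb)

/-- Conjugation permutes the conjugates of `u`. -/
theorem conj_uS {a : J4P} (ha : a ∈ XY) : (∀ p < 1771, ∃ q < 1771, a⁻¹ * uS p * a = uS q) ∧
    (∀ p < 1771, ∃ q < 1771, a * uS p * a⁻¹ = uS q) := by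
  obtain ⟨h2, h3, -⟩ := rels
  have hgen : ∀ a ∈ ({gX, gY} : Set J4P), ∀ p < 1771, ∃ q < 1771, a⁻¹ * uS p * a = uS q := by
    rintro a (rfl | rfl) p hp <;> obtain ⟨e, l, e', l'⟩ := img_spec hp
    · exact ⟨_, l, e.symm⟩
    · exact ⟨_, l', e'.symm⟩
  induction ha using Subgroup.closure_induction with
  | mem a h =>
    refine ⟨hgen a h, fun p hp => ?_⟩
    rcases h with rfl | rfl
    · have hx : gX⁻¹ = gX := inv_eq_of_mul_eq_one_right (by rw [← pow_two]; exact h2)
      simpa [hx] using hgen gX (Or.inl rfl) p hp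
    · obtain ⟨q, hq, e⟩ := hgen gY (Or.inr rfl) p hp
      obtain ⟨q', hq', e'⟩ := hgen gY (Or.inr rfl) q hq
      refine ⟨q', hq', ?_⟩
      have hy : gY⁻¹ = gY * gY := inv_eq_of_mul_eq_one_right (by rw [← mul_assoc, ← pow_two, ← pow_succ]; exact h3)
      rw [← e', ← e]
      calc gY * uS p * gY⁻¹ = (gY⁻¹)⁻¹ * uS p * gY⁻¹ := by rw [inv_inv]
        _ = (gY * gY)⁻¹ * uS p * (gY * gY) := by rw [hy]
        _ = _ := by group
  | one => exact ⟨fun p hp => ⟨p, hp, by simp⟩, fun p hp => ⟨p, hp, by simp⟩⟩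
  | mul a b _ _ iha ihb =>
    refine ⟨fun p hp => ?_, fun p hp => ?_⟩
    · obtain ⟨q, hq, e⟩ := iha.1 p hp
      obtain ⟨r, hr, e'⟩ := ihb.1 q hq
      exact ⟨r, hr, by rw [← e', ← e]; group⟩
    · obtain ⟨q, hq, e⟩ := ihb.2 p hp
      obtain ⟨r, hr, e'⟩ := iha.2 q hq
      exact ⟨r, hr, by rw [← e', ← e]; group⟩
  | inv a _ iha =>
    exact ⟨fun p hp => by simpa using iha.2 p hp, fun p hp => by simpa using iha.1 p hp⟩

theorem commute_all {i j : ℕ} (hi : i < 1771) (hj : j < 1771) : Commute (uS i) (uS j) := by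
  have hn := (sW_spec i hi).1.2
  obtain ⟨q, hq, e⟩ := (conj_uS hn).2 j hj
  have h := commute_zero q hq
  rw [uS_zero] at h
  have e2 : uS j = (el (sW i))⁻¹ * uS q * el (sW i) := by rw [← e]; group
  rw [e2]
  show uS i * _ = _ * uS i
  simp only [uS] at h ⊢
  calc (el (sW i))⁻¹ * gU * el (sW i) * ((el (sW i))⁻¹ * ((el (sW q))⁻¹ * gU * el (sW q)) * el (sW i))
      = (el (sW i))⁻¹ * (gU * ((el (sW q))⁻¹ * gU * el (sW q))) * el (sW i) := by group
    _ = (el (sW i))⁻¹ * ((el (sW q))⁻¹ * gU * el (sW q) * gU) * el (sW i) := by rw [h.eq]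
    _ = _ := by group

/-- The eleven. -/
noncomputable def bU (k : ℕ) : J4P := uS (basis.getD k 0)

/-- The normal subgroup. -/
noncomputable def UN : Subgroup J4P := Subgroup.closure (uS '' Set.Iio 1771)

/-- The subgroup generated by the first of the eleven. -/
noncomputable def BK (n : ℕ) : Subgroup J4P := Subgroup.closure (bU '' Set.Iio n)

theorem basis_lt {k : ℕ} (hk : k < 11) : basis.getD k 0 < 1771 := by
  have h := List.all_eq_true.1 basisW_ok.2.2 k (List.mem_range.2 hk)
  simp only [Bool.and_eq_true, Nat.blt_eq] at h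
  exact h.1

theorem UN_eq : UN = BK 11 := by
  apply le_antisymm
  · suffices ∀ z v, oPos spanOrd v = z → v < 1771 → uS v ∈ BK 11 by
      rw [UN, Subgroup.closure_le]
      rintro _ ⟨v, hv, rfl⟩
      exact this _ v rfl hv
    intro z
    induction z using Nat.strong_induction_on with
    | _ z ih =>
      intro v hz hv
      have h := allF_iff.1 orders_ok v hv
      simp only [spanOK, force_eq, Bool.and_eq_true, Bool.or_eq_true, Nat.blt_eq, earlier, Nat.beq_eq,
        List.any_eq_true] at h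
      rcases h.2 with ⟨b, hb, rfl⟩ | ⟨hk, hr⟩
      · obtain ⟨k, hk, rfl⟩ := List.mem_iff_getElem.1 hb
        exact Subgroup.subset_closure ⟨k, show k < 11 by rw [← basisW_ok.1]; exact hk,
          by rw [bU, List.getD_eq_getElem _ _ hk]⟩
      obtain ⟨-, hab, hac, hbc⟩ := line_full hk
      obtain ⟨la, lb, lc, -⟩ := line_prod _ hk
      rcases hr with (hr | hr) | hr <;> obtain ⟨⟨e, p1⟩, p2⟩ := hr <;> rw [← e]
      · rw [← hbc]; exact mul_mem (ih _ (hz ▸ p1) _ rfl lb) (ih _ (hz ▸ p2) _ rfl lc)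
      · rw [← hac]; exact mul_mem (ih _ (hz ▸ p1) _ rfl la) (ih _ (hz ▸ p2) _ rfl lc)
      · rw [← hab]; exact mul_mem (ih _ (hz ▸ p1) _ rfl la) (ih _ (hz ▸ p2) _ rfl lb)
  · rw [BK, Subgroup.closure_le]
    rintro _ ⟨k, hk, rfl⟩
    exact Subgroup.subset_closure ⟨_, basis_lt hk, rfl⟩

theorem UN_comm {a b : J4P} (ha : a ∈ UN) (hb : b ∈ UN) : Commute a b := by
  induction ha using Subgroup.closure_induction with
  | mem a h =>
    obtain ⟨i, hi, rfl⟩ := h
    induction hb using Subgroup.closure_induction with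
    | mem b h => obtain ⟨j, hj, rfl⟩ := h; exact commute_all hi hj
    | one => exact Commute.one_right _
    | mul x y _ _ hx hy => exact hx.mul_right hy
    | inv x _ hx => exact hx.inv_right
  | one => exact Commute.one_left _
  | mul x y _ _ hx hy => exact hx.mul_left hy
  | inv x _ hx => exact hx.inv_left

theorem BK_le {n : ℕ} (hn : n ≤ 11) : BK n ≤ UN := by
  rw [UN_eq]
  exact Subgroup.closure_mono (Set.image_mono (Set.Iio_subset_Iio hn))

theorem BK_card : ∀ n ≤ 11, Nat.card (BK n) ≤ 2 ^ n ∧ Finite (BK n) := by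
  intro n
  induction n with
  | zero =>
    intro _
    have : BK 0 = ⊥ := by
      rw [BK, show Set.Iio 0 = (∅ : Set ℕ) from Set.ext fun k => by simp, Set.image_empty, Subgroup.closure_empty]
    rw [this]
    exact ⟨by simp, inferInstance⟩
  | succ n ih =>
    intro hn
    obtain ⟨hc, hf⟩ := ih (by omega)
    have hsq : bU n * bU n = 1 := uS_sq
    have key : ∀ g ∈ BK (n + 1), ∃ a ∈ BK n, g = a ∨ g = a * bU n := by
      intro g hg
      induction hg using Subgroup.closure_induction_right with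
      | one => exact ⟨1, one_mem _, Or.inl rfl⟩
      | mul_right x hx y hy ih =>
        obtain ⟨k, hk, rfl⟩ := hy
        obtain ⟨a, ha, h⟩ := ih
        rcases Nat.lt_or_ge k n with hkn | hkn
        · have hb : bU k ∈ BK n := Subgroup.subset_closure ⟨k, hkn, rfl⟩
          refine ⟨a * bU k, mul_mem ha hb, ?_⟩
          have hcm : Commute (bU n) (bU k) := commute_all (basis_lt (by omega)) (basis_lt (by omega))
          rcases h with rfl | rfl
          · exact Or.inl rfl
          · exact Or.inr (by rw [mul_assoc, hcm.eq, ← mul_assoc])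
        · obtain rfl : k = n := by have : k < n + 1 := hk; omega
          refine ⟨a, ha, ?_⟩
          rcases h with rfl | rfl
          · exact Or.inr rfl
          · exact Or.inl (by rw [mul_assoc, hsq, mul_one])
      | mul_inv_cancel x hx y hy ih =>
        obtain ⟨k, hk, rfl⟩ := hy
        have hinv : (bU k)⁻¹ = bU k := uS_inv _
        rw [hinv]
        obtain ⟨a, ha, h⟩ := ih
        rcases Nat.lt_or_ge k n with hkn | hkn
        · have hb : bU k ∈ BK n := Subgroup.subset_closure ⟨k, hkn, rfl⟩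
          refine ⟨a * bU k, mul_mem ha hb, ?_⟩
          have hcm : Commute (bU n) (bU k) := commute_all (basis_lt (by omega)) (basis_lt (by omega))
          rcases h with rfl | rfl
          · exact Or.inl rfl
          · exact Or.inr (by rw [mul_assoc, hcm.eq, ← mul_assoc])
        · obtain rfl : k = n := by have : k < n + 1 := hk; omega
          refine ⟨a, ha, ?_⟩
          rcases h with rfl | rfl
          · exact Or.inr rfl
          · exact Or.inl (by rw [mul_assoc, hsq, mul_one])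
    have hle : BK n ≤ BK (n + 1) := Subgroup.closure_mono (Set.image_mono (Set.Iio_subset_Iio (Nat.le_succ n)))
    have hb : bU n ∈ BK (n + 1) := Subgroup.subset_closure ⟨n, Nat.lt_succ_self n, rfl⟩
    let f : BK n × Bool → BK (n + 1) := fun p =>
      ⟨bif p.2 then (p.1 : J4P) * bU n else p.1, by cases p.2 <;> [exact hle p.1.2; exact mul_mem (hle p.1.2) hb]⟩
    have hf' : Function.Surjective f := by
      rintro ⟨g, hg⟩
      obtain ⟨a, ha, h⟩ := key g hg
      rcases h with rfl | rfl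
      · exact ⟨(⟨_, ha⟩, false), rfl⟩
      · exact ⟨(⟨_, ha⟩, true), rfl⟩
    have := Finite.of_surjective f hf'
    refine ⟨le_trans (Nat.card_le_card_of_surjective f hf') ?_, this⟩
    rw [Nat.card_prod, Nat.card_eq_fintype_card (α := Bool), Fintype.card_bool, pow_succ]
    exact Nat.mul_le_mul_right 2 hc

end CfsgLib.Sporadic.CosetCert.J4Index
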