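import Cfsg.Agent.Lib.Sporadic.J4Index.RepDefs

/-!
# Kernel checks of elements of orders 11, 29, 31, 37, 43
-/

set_option autoImplicit false
set_option maxRecDepth 100000

namespace CfsgLib.Sporadic.CosetCert.J4Index

open BitMatrix J4Rep

theorem prime_mats : primeWords.map Prod.fst = [29, 31, 37, 43] ∧
    primeWords.all (fun e => isOne 112 ((List.replicate e.1 (mats e.2)).flatten) && !(isOne 112 (mats e.2))) = true := by
  decide +kernel

theorem prog_mats : prog.all (fun _ => true) = true ∧
    (J4Index.force (fun _ => (fun R => Nat.beq (R.getD progOut.1 0) (pack 112 matP) &&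
      Nat.beq (R.getD progOut.2 0) (pack 112 matQ))
      (runProg prog [pack 112 mX, pack 112 mY, pack 112 mYi, pack 112 mT, pack 112 (one 112)])) 0) = true := by
  decide +kernel

theorem sylow_mats : ok 112 matP = true ∧ ok 112 matQ = true ∧
    isOne 112 (List.replicate 11 matP) = true ∧ isOne 112 (List.replicate 11 matQ) = true ∧
    eqProd [matP, matQ] [matQ, matP] = false ∧
    eqProd (List.replicate 10 matP ++ List.replicate 10 matQ ++ [matP, matQ] ++ [matP])
      ([matP] ++ (List.replicate 10 matP ++ List.replicate 10 matQ ++ [matP, matQ])) = true ∧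
    eqProd (List.replicate 10 matP ++ List.replicate 10 matQ ++ [matP, matQ] ++ [matQ])
      ([matQ] ++ (List.replicate 10 matP ++ List.replicate 10 matQ ++ [matP, matQ])) = true := by decide +kernel

end CfsgLib.Sporadic.CosetCert.J4Index
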