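import Cfsg.Agent.Lib.Sporadic.J4Index.Detect
import Cfsg.Agent.Lib.Sporadic.J4Index.PrimeCheck

/-!
# The index of the subgroup is 173067389
-/

set_option autoImplicit false
set_option maxRecDepth 100000

namespace CfsgLib.Sporadic.CosetCert.J4Index

open OutCert BitMatrix Cfsg Cfsg.Spor J4M24

attribute [local irreducible] pm idP lk sift wT wTi sW sWi BitMatrix.mulP BitMatrix.ok BitMatrix.one isOne dec
  matP matQ prog runProg pack unpack

theorem gU_mem_UN : gU ∈ UN := Subgroup.subset_closure ⟨0, by norm_num, uS_zero⟩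

theorem conj_UN {a : J4P} (ha : a ∈ XY) {u : J4P} (hu : u ∈ UN) : a * u * a⁻¹ ∈ UN := by
  induction hu using Subgroup.closure_induction with
  | mem u h =>
    obtain ⟨p, hp, rfl⟩ := h
    obtain ⟨q, hq, e⟩ := (conj_uS ha).2 p hp
    exact Subgroup.subset_closure ⟨q, hq, e.symm⟩
  | one => rw [mul_one, mul_inv_cancel]; exact one_mem _
  | mul x y _ _ hx hy =>
    rw [show a * (x * y) * a⁻¹ = (a * x * a⁻¹) * (a * y * a⁻¹) by group]
    exact mul_mem hx hy
  | inv x _ hx =>
    rw [show a * x⁻¹ * a⁻¹ = (a * x * a⁻¹)⁻¹ by group]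
    exact inv_mem hx

theorem UN_le_HS : UN ≤ HS := by
  rw [UN, Subgroup.closure_le]
  rintro _ ⟨p, hp, rfl⟩
  have h := XY_le_HS (sW_spec p hp).1.2
  exact mul_mem (mul_mem (inv_mem h) (Subgroup.subset_closure (by simp))) h

/-- Every element of the subgroup is a product of one of the normal subgroup and one of `⟨x, y⟩`. -/
theorem HS_decomp {g : J4P} (hg : g ∈ HS) : ∃ u ∈ UN, ∃ n ∈ XY, g = u * n := by
  induction hg using Subgroup.closure_induction_right with
  | one => exact ⟨1, one_mem _, 1, one_mem _, by rw [one_mul]⟩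
  | mul_right x _ y hy ih =>
    obtain ⟨u, hu, n, hn, rfl⟩ := ih
    rcases hy with rfl | rfl | rfl
    · exact ⟨u, hu, n * gX, mul_mem hn (Subgroup.subset_closure (by simp)), by rw [mul_assoc]⟩
    · exact ⟨u, hu, n * gY, mul_mem hn (Subgroup.subset_closure (by simp)), by rw [mul_assoc]⟩
    · exact ⟨u * (n * gU * n⁻¹), mul_mem hu (conj_UN hn gU_mem_UN), n, hn, by group⟩
  | mul_inv_cancel x _ y hy ih =>
    obtain ⟨u, hu, n, hn, rfl⟩ := ih
    rcases hy with rfl | rfl | rfl
    · exact ⟨u, hu, n * gX⁻¹, mul_mem hn (inv_mem (Subgroup.subset_closure (by simp))), by rw [mul_assoc]⟩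
    · exact ⟨u, hu, n * gY⁻¹, mul_mem hn (inv_mem (Subgroup.subset_closure (by simp))), by rw [mul_assoc]⟩
    · exact ⟨u * (n * gU⁻¹ * n⁻¹), mul_mem hu (conj_UN hn (inv_mem gU_mem_UN)), n, hn, by group⟩

/-- `⟨x, y⟩` is simple. -/
theorem XY_simple (K : Subgroup J4P) (hle : K ≤ XY) (hn : ∀ a ∈ XY, ∀ k ∈ K, a * k * a⁻¹ ∈ K) : K = ⊥ ∨ K = XY := by
  have : IsSimpleGroup M24 := CfsgLib.SmallGroups.MathieuSimple.isSimple_M24
  let π : pairs →* M24 := (MonoidHom.snd J4P M24).comp pairs.subtype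
  let e : M24 ≃* pairs := (MulEquiv.ofBijective π pairs_bij).symm
  let φ : M24 →* J4P := ((MonoidHom.fst J4P M24).comp pairs.subtype).comp e.toMonoidHom
  have hr : φ.range = XY := by
    rw [MonoidHom.range_comp, MonoidHom.range_eq_top.2 e.surjective, ← MonoidHom.range_eq_map, MonoidHom.range_comp,
      Subgroup.range_subtype, pairs, MonoidHom.map_closure]
    congr 1
    ext g
    constructor
    · rintro ⟨_, ⟨k, hk, rfl⟩, rfl⟩
      have hk' : k = 0 ∨ k = 1 := by have : k < 2 := hk; omega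
      rcases hk' with rfl | rfl
      · exact Or.inl rfl
      · exact Or.inr rfl
    · rintro (rfl | rfl)
      · exact ⟨sBoth 0, ⟨0, by norm_num, rfl⟩, rfl⟩
      · exact ⟨sBoth 1, ⟨1, by norm_num, rfl⟩, rfl⟩
  have hN : (K.comap φ).Normal := ⟨fun k hk a => by
    have := hn (φ a) (hr ▸ ⟨a, rfl⟩) (φ k) hk
    simpa only [Subgroup.mem_comap, map_mul, map_inv] using this⟩
  rcases hN.eq_bot_or_eq_top with h | h
  · left
    rw [eq_bot_iff]
    intro k hk
    obtain ⟨a, rfl⟩ : k ∈ φ.range := hr ▸ hle hk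
    have : a ∈ K.comap φ := hk
    rw [h, Subgroup.mem_bot] at this
    rw [this, map_one]
    exact one_mem _
  · right
    refine le_antisymm hle ?_
    rw [← hr]
    rintro _ ⟨a, rfl⟩
    have : a ∈ K.comap φ := h ▸ Subgroup.mem_top a
    exact this

theorem xy_noncomm : gX * gY ≠ gY * gX := by
  intro h
  have hd : (List.range 24).all (fun i => Nat.beq (lk 5 (pm pX pY) i) (lk 5 (pm pY pX) i)) = false := by decide +kernel
  have e : (List.range 24).all (fun i => Nat.beq (lk 5 (pm pX pY) i) (lk 5 (pm pY pX) i)) = true := by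
    rw [List.all_eq_true]
    intro i hi
    rw [Nat.beq_eq]
    exact el_inj ⟨_, pr_x.mul pr_y⟩ ⟨_, pr_y.mul pr_x⟩ (by rw [(pr_x.mul pr_y).el_eq, (pr_y.mul pr_x).el_eq, h])
      (List.mem_range.1 hi)
  rw [hd] at e
  exact Bool.noConfusion e

theorem UN_inf_XY {g : J4P} (h1 : g ∈ UN) (h2 : g ∈ XY) : g = 1 := by
  rcases XY_simple (UN ⊓ XY) inf_le_right fun a ha k hk =>
      ⟨conj_UN ha hk.1, XY.mul_mem (XY.mul_mem ha hk.2) (XY.inv_mem ha)⟩ with h | h
  · exact Subgroup.mem_bot.1 (h ▸ (⟨h1, h2⟩ : g ∈ UN ⊓ XY))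
  · have hle : XY ≤ UN := h ▸ inf_le_left
    exact absurd (UN_comm (hle (Subgroup.subset_closure (by simp))) (hle (Subgroup.subset_closure (by simp)))).eq
      xy_noncomm

theorem card_HS : Nat.card HS = 2048 * 244823040 := by
  let f : UN × XY → HS := fun p => ⟨(p.1 : J4P) * p.2, mul_mem (UN_le_HS p.1.2) (XY_le_HS p.2.2)⟩
  have hf : Function.Bijective f := by
    constructor
    · rintro ⟨u, n⟩ ⟨u', n'⟩ e
      have e' : (u : J4P) * n = u' * n' := congrArg Subtype.val e
      have h1 : (u' : J4P)⁻¹ * u = n' * (n : J4P)⁻¹ := by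
        rw [eq_mul_inv_iff_mul_eq, mul_assoc, e', inv_mul_cancel_left]
      have h2 := UN_inf_XY (mul_mem (inv_mem u'.2) u.2) (by rw [h1]; exact mul_mem n'.2 (inv_mem n.2))
      have hu : u = u' := Subtype.ext (inv_mul_eq_one.1 h2).symm
      subst hu
      exact Prod.ext rfl (Subtype.ext (mul_left_cancel e'))
    · rintro ⟨g, hg⟩
      obtain ⟨u, hu, n, hn, rfl⟩ := HS_decomp hg
      exact ⟨(⟨u, hu⟩, ⟨n, hn⟩), rfl⟩
  rw [← Nat.card_congr (Equiv.ofBijective f hf), Nat.card_prod, card_UN, card_XY_eq]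

theorem card_J4P : Nat.card J4P = HS.index * (2048 * 244823040) := by
  rw [← HS.index_mul_card, card_HS]

instance finite_J4P : Finite J4P := Nat.finite_of_card_ne_zero (by
  rw [card_J4P]; exact Nat.mul_ne_zero index_le.2 (by norm_num))

theorem dec_inj {A B : List ℕ} (hA : ok 112 A = true) (hB : ok 112 B = true) (h : dec 112 A = dec 112 B) : A = B := by
  obtain ⟨hAl, hAb⟩ := ok_iff.1 hA
  obtain ⟨hBl, hBb⟩ := ok_iff.1 hB
  refine List.ext_getElem (hAl.trans hBl.symm) fun i hi hi' => Nat.eq_of_testBit_eq fun j => ?_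
  by_cases hj : j < 112
  · have e := congrFun (congrFun h ⟨i, hAl ▸ hi⟩) ⟨j, hj⟩
    unfold dec at e
    rw [List.getD_eq_getElem _ _ hi, List.getD_eq_getElem _ _ hi'] at e
    simp only at e
    cases ha : A[i].testBit j <;> cases hb : B[i].testBit j <;> simp_all
  · have hp : ∀ v, v < 2 ^ 112 → v.testBit j = false := fun v hv =>
      Nat.testBit_lt_two_pow (lt_of_lt_of_le hv (Nat.pow_le_pow_right (by norm_num) (by omega)))
    rw [hp _ (hAb _ (List.getElem_mem hi)), hp _ (hBb _ (List.getElem_mem hi'))]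

theorem isOne_of_prod {L : List (List ℕ)} (hL : ∀ B ∈ L, ok 112 B = true) (h : (L.map (dec 112)).prod = 1) :
    isOne 112 L = true := by
  have h0 : BitMatrix.Good 112 (pack 112 (one 112)) 1 := ⟨one 112, (ok_iff.1 ok_one).1, one_lt, rfl, dec_one⟩
  obtain ⟨A, hAl, hA, hP, hM⟩ := BitMatrix.Good.prodP L hL h0
  rw [one_mul, h] at hM
  have : A = one 112 := dec_inj (ok_iff.2 ⟨hAl, hA⟩) ok_one (by rw [hM, dec_one])
  unfold isOne
  rw [Nat.beq_eq, BitMatrix.forced_eq, hP, this]

theorem prime_dvd {p : ℕ} (hp : p ∈ [29, 31, 37, 43]) : p ∣ Nat.card J4P := by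
  obtain ⟨hl, hall⟩ := prime_mats
  rw [← hl, List.mem_map] at hp
  obtain ⟨⟨q, w⟩, he, rfl⟩ := hp
  have h := List.all_eq_true.1 hall _ he
  simp only [Bool.and_eq_true, Bool.not_eq_true'] at h
  obtain ⟨h1, h2⟩ := h
  have hq : q.Prime := by
    have : q ∈ [29, 31, 37, 43] := by rw [← hl]; exact List.mem_map.2 ⟨_, he, rfl⟩
    simp only [List.mem_cons, List.not_mem_nil, or_false] at this
    rcases this with rfl | rfl | rfl | rfl <;> norm_num
  have hflat : ((List.replicate q (mats w)).flatten) = mats ((List.replicate q w).flatten) := by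
    simp [mats, List.map_flatten]
  have hpow : repM (w4 ((List.replicate q w).flatten)) = 1 := by
    rw [repM_w4, ← hflat]
    exact isOne_spec (by
      intro B hB
      obtain ⟨L, hL, hBL⟩ := List.mem_flatten.1 hB
      rw [List.eq_of_mem_replicate hL] at hBL
      exact mats_ok w B hBL) h1
  have hne : repM (w4 w) ≠ 1 := by
    intro e
    have : isOne 112 (mats w) = true := isOne_of_prod (mats_ok w) (by rw [← repM_w4]; exact e)
    rw [h2] at this
    exact Bool.noConfusion this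
  have hw : w4 ((List.replicate q w).flatten) = w4 w ^ q := by
    clear hflat hpow h1 he hq
    induction q with
    | zero => simp [w4]
    | succ n ih => rw [List.replicate_succ, List.flatten_cons, w4_append, ih, pow_succ']
  rw [hw] at hpow
  have ho : orderOf (J4Rep.rep (w4 w)) = q := by
    have : Fact q.Prime := ⟨hq⟩
    refine orderOf_eq_prime ?_ fun e => hne (congrArg Units.val e)
    rw [← map_pow]
    exact Units.ext hpow
  exact ho ▸ (orderOf_map_dvd J4Rep.rep (w4 w)).trans (orderOf_dvd_natCard _)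

/-- The order of a product with a normalising subgroup meeting trivially. -/
theorem card_prod_sub {G : Type*} [Group G] {N A L : Subgroup G} (hNL : N ≤ L) (hAL : A ≤ L)
    (hnorm : ∀ a ∈ A, ∀ n ∈ N, a * n * a⁻¹ ∈ N) (hgen : L ≤ N ⊔ A) (hdis : ∀ g ∈ N, g ∈ A → g = 1) :
    Nat.card L = Nat.card N * Nat.card A := by
  have hle : N ⊔ A ≤ L := sup_le hNL hAL
  have hset : ∀ g ∈ L, ∃ n ∈ N, ∃ a ∈ A, g = n * a := by
    intro g hg
    have h := hgen hg
    rw [Subgroup.sup_eq_closure] at h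
    induction h using Subgroup.closure_induction_right with
    | one => exact ⟨1, one_mem _, 1, one_mem _, by rw [one_mul]⟩
    | mul_right x hx y hy ih =>
      obtain ⟨n, hn, a, ha, rfl⟩ := ih (by
        refine (hle ?_)
        rw [Subgroup.sup_eq_closure]
        exact hx)
      rcases hy with hy | hy
      · exact ⟨n * (a * y * a⁻¹), mul_mem hn (hnorm a ha y hy), a, ha, by group⟩
      · exact ⟨n, hn, a * y, mul_mem ha hy, by rw [mul_assoc]⟩
    | mul_inv_cancel x hx y hy ih =>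
      obtain ⟨n, hn, a, ha, rfl⟩ := ih (by
        refine (hle ?_)
        rw [Subgroup.sup_eq_closure]
        exact hx)
      rcases hy with hy | hy
      · exact ⟨n * (a * y⁻¹ * a⁻¹), mul_mem hn (hnorm a ha _ (inv_mem hy)), a, ha, by group⟩
      · exact ⟨n, hn, a * y⁻¹, mul_mem ha (inv_mem hy), by rw [mul_assoc]⟩
  let f : N × A → L := fun p => ⟨(p.1 : G) * p.2, mul_mem (hNL p.1.2) (hAL p.2.2)⟩
  have hf : Function.Bijective f := by
    constructor
    · rintro ⟨n, a⟩ ⟨n', a'⟩ e
      have e' : (n : G) * a = n' * a' := congrArg Subtype.val e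
      have h1 : (n' : G)⁻¹ * n = a' * (a : G)⁻¹ := by rw [eq_mul_inv_iff_mul_eq, mul_assoc, e', inv_mul_cancel_left]
      have h2 := hdis _ (mul_mem (inv_mem n'.2) n.2) (by rw [h1]; exact mul_mem a'.2 (inv_mem a.2))
      have hu : n = n' := Subtype.ext (inv_mul_eq_one.1 h2).symm
      subst hu
      exact Prod.ext rfl (Subtype.ext (mul_left_cancel e'))
    · rintro ⟨g, hg⟩
      obtain ⟨n, hn, a, ha, rfl⟩ := hset g hg
      exact ⟨(⟨n, hn⟩, ⟨a, ha⟩), rfl⟩
  rw [← Nat.card_congr (Equiv.ofBijective f hf), Nat.card_prod]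

theorem heis {G : Type*} [Group G] [Finite G] {a b : G} (ha : a ^ 11 = 1) (hb : b ^ 11 = 1)
    (hab : a * b ≠ b * a) {c : G} (hc : c = a⁻¹ * b⁻¹ * a * b) (hca : c * a = a * c) (hcb : c * b = b * c) :
    11 ^ 3 ∣ Nat.card G := by
  haveI : Fact (Nat.Prime 11) := ⟨by norm_num⟩
  have hc1 : c ≠ 1 := fun h => hab (by rw [hc] at h; calc a * b = b * a * (a⁻¹ * b⁻¹ * a * b) := by group
                                                            _ = b * a := by rw [h, mul_one])
  have hbc : a⁻¹ * b * a = b * c⁻¹ := by rw [hc]; group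
  have hk : ∀ k : ℕ, (a ^ k)⁻¹ * b * a ^ k = b * (c⁻¹) ^ k := by
    intro k
    induction k with
    | zero => simp
    | succ n ih =>
      have hcc : Commute (c⁻¹ ^ n) a := ((show Commute c a from hca).inv_left).pow_left n
      calc (a ^ (n + 1))⁻¹ * b * a ^ (n + 1) = a⁻¹ * ((a ^ n)⁻¹ * b * a ^ n) * a := by rw [pow_succ]; group
        _ = a⁻¹ * (b * c⁻¹ ^ n) * a := by rw [ih]
        _ = a⁻¹ * b * a * (a⁻¹ * (c⁻¹ ^ n * a)) := by group
        _ = b * c⁻¹ ^ (n + 1) := by rw [hcc.eq, inv_mul_cancel_left, hbc, mul_assoc, ← pow_succ']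
  have hc11 : c ^ 11 = 1 := by
    have h := hk 11
    rw [ha, inv_one, one_mul, mul_one, inv_pow] at h
    exact inv_eq_one.1 (left_eq_mul.1 h)
  have oA : Nat.card (Subgroup.zpowers a) = 11 := by
    rw [Nat.card_zpowers]; exact orderOf_eq_prime ha fun h => hab (by rw [h, one_mul, mul_one])
  have oB : Nat.card (Subgroup.zpowers b) = 11 := by
    rw [Nat.card_zpowers]; exact orderOf_eq_prime hb fun h => hab (by rw [h, one_mul, mul_one])
  have oC : Nat.card (Subgroup.zpowers c) = 11 := by rw [Nat.card_zpowers]; exact orderOf_eq_prime hc11 hc1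
  have key : ∀ (x : G), x ^ 11 = 1 → ∀ (M : Subgroup G), x ∉ M → ∀ g ∈ M, g ∈ Subgroup.zpowers x → g = 1 := by
    intro x hx M hxM g hg hgx
    by_contra hne
    have hx1 : x ≠ 1 := fun h => hxM (h ▸ one_mem M)
    obtain ⟨k, rfl⟩ := Subgroup.mem_zpowers_iff.1 hgx
    have h0 : Nat.card (M ⊓ Subgroup.zpowers x : Subgroup G) ∣ 11 := by
      rw [← orderOf_eq_prime hx hx1, ← Nat.card_zpowers]
      exact Subgroup.card_dvd_of_le inf_le_right
    rcases (Nat.dvd_prime (by norm_num)).1 h0 with h | h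
    · exact hne (Subgroup.mem_bot.1 ((Subgroup.card_eq_one.1 h) ▸ (⟨hg, hgx⟩ : x ^ k ∈ M ⊓ Subgroup.zpowers x)))
    · have := Subgroup.eq_of_le_of_card_ge (inf_le_right : M ⊓ Subgroup.zpowers x ≤ Subgroup.zpowers x)
        (by rw [h, Nat.card_zpowers, orderOf_eq_prime hx hx1])
      exact hxM ((this.symm ▸ Subgroup.mem_zpowers x : x ∈ M ⊓ Subgroup.zpowers x)).1
  have hCB : ∀ g ∈ Subgroup.zpowers c, ∀ h ∈ Subgroup.zpowers b, Commute h g := by
    intro g hg h hh
    obtain ⟨i, rfl⟩ := Subgroup.mem_zpowers_iff.1 hg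
    obtain ⟨j, rfl⟩ := Subgroup.mem_zpowers_iff.1 hh
    exact ((show Commute b c from hcb.symm).zpow_left j).zpow_right i
  have hbC : b ∉ Subgroup.zpowers c := by
    intro h
    obtain ⟨i, hi⟩ := Subgroup.mem_zpowers_iff.1 h
    exact hab (by rw [← hi]; exact ((show Commute a c from hca.symm).zpow_right i).eq)
  let M : Subgroup G := Subgroup.zpowers c ⊔ Subgroup.zpowers b
  have oM : Nat.card M = 121 := by
    rw [card_prod_sub (L := M) le_sup_left le_sup_right (fun x hx n hn => by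
      rw [(hCB n hn x hx).eq, mul_inv_cancel_right]; exact hn) le_rfl (key b hb _ hbC), oC, oB]
  have haM : a ∉ M := by
    intro h
    have : M ≤ Subgroup.centralizer {b} := by
      refine sup_le ?_ ?_ <;> rw [Subgroup.zpowers_le, Subgroup.mem_centralizer_singleton_iff]
      exact hcb
    exact hab (Subgroup.mem_centralizer_singleton_iff.1 (this h))
  have hnorm : ∀ x ∈ Subgroup.zpowers a, ∀ n ∈ M, x * n * x⁻¹ ∈ M := by
    intro x hx n hn
    obtain ⟨k, hkx⟩ := Submonoid.mem_powers_iff _ _ |>.1 (mem_powers_iff_mem_zpowers.2 (inv_mem hx))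
    obtain rfl : x = (a ^ k)⁻¹ := by rw [hkx, inv_inv]
    rw [inv_inv]
    have : M ≤ M.comap (MulAut.conj (a ^ k)⁻¹).toMonoidHom := by
      refine sup_le ?_ ?_ <;> rw [Subgroup.zpowers_le, Subgroup.mem_comap] <;>
        simp only [MulEquiv.coe_toMonoidHom, MulAut.conj_apply, inv_inv]
      · rw [mul_assoc, ((show Commute c a from hca).pow_right k).eq, inv_mul_cancel_left]
        exact Subgroup.mem_sup_left (Subgroup.mem_zpowers c)
      · rw [hk]
        exact mul_mem (Subgroup.mem_sup_right (Subgroup.mem_zpowers b))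
          (pow_mem (inv_mem (Subgroup.mem_sup_left (Subgroup.mem_zpowers c))) k)
    have h2 := this hn
    simp only [Subgroup.mem_comap, MulEquiv.coe_toMonoidHom, MulAut.conj_apply, inv_inv] at h2
    exact h2
  have oR := card_prod_sub (L := M ⊔ Subgroup.zpowers a) le_sup_left le_sup_right hnorm le_rfl (key a ha _ haM)
  rw [oM, oA] at oR
  have := Subgroup.card_subgroup_dvd_card (M ⊔ Subgroup.zpowers a)
  rw [oR] at this
  exact this

/-- The program refers only to earlier entries. -/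
def progWF : List (ℕ × ℕ) → ℕ → Bool
  | [], _ => true
  | (i, j) :: r, n => Nat.blt i n && (Nat.blt j n && progWF r (n + 1))

theorem runProg_sound : ∀ (r : List (ℕ × ℕ)) (acc : List ℕ), progWF r acc.length = true →
    (∀ v ∈ acc, ∃ g : J4P, BitMatrix.Good 112 v (repM g)) →
      ∀ v ∈ runProg r acc, ∃ g : J4P, BitMatrix.Good 112 v (repM g) := by
  intro r
  induction r with
  | nil => intro acc _ h; rw [runProg]; exact h
  | cons e r ih =>
    obtain ⟨i, j⟩ := e
    intro acc hw h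
    simp only [progWF, Bool.and_eq_true, Nat.blt_eq] at hw
    obtain ⟨hi, hj, hw⟩ := hw
    rw [runProg, force_eq]
    refine ih _ (by simpa using hw) fun v hv => ?_
    rcases List.mem_append.1 hv with hv | hv
    · exact h v hv
    rw [List.mem_singleton] at hv
    subst hv
    rw [List.getD_eq_getElem _ _ hi, List.getD_eq_getElem _ _ hj]
    obtain ⟨g, hg⟩ := h _ (List.getElem_mem hi)
    obtain ⟨g', B, hBl, hB, hP, hd⟩ := h _ (List.getElem_mem hj)
    have hu : unpack 112 112 acc[j] = B := by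
      have := unpack_pack B hB
      rw [hBl] at this
      rw [hP, this]
    rw [hu]
    exact ⟨g * g', by rw [repM_mul, ← hd]; exact hg.mul (ok_iff.2 ⟨hBl, hB⟩)⟩

theorem runProg_len : ∀ (r : List (ℕ × ℕ)) (acc : List ℕ), (runProg r acc).length = r.length + acc.length := by
  intro r
  induction r with
  | nil => intro acc; rw [runProg]; simp
  | cons e r ih =>
    intro acc
    obtain ⟨i, j⟩ := e
    rw [runProg, force_eq, ih]
    simp only [List.length_append, List.length_cons, List.length_nil]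
    omega

theorem prog_wf : progWF prog 5 = true := by decide +kernel

theorem out_rep : (∃ g : J4P, repM g = dec 112 matP) ∧ ∃ g : J4P, repM g = dec 112 matQ := by
  obtain ⟨-, h⟩ := prog_mats
  simp only [force_eq, Bool.and_eq_true, Nat.beq_eq] at h
  have hgood : ∀ (A : List ℕ) (g : J4P), ok 112 A = true → repM g = dec 112 A → BitMatrix.Good 112 (pack 112 A) (repM g) :=
    fun A g hA e => ⟨A, (ok_iff.1 hA).1, (ok_iff.1 hA).2, rfl, e.symm⟩
  have hs := runProg_sound prog
    [pack 112 J4Rep.mX, pack 112 J4Rep.mY, pack 112 J4Rep.mYi, pack 112 J4Rep.mT, pack 112 (one 112)]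
    prog_wf (by
      intro v hv
      simp only [List.mem_cons, List.not_mem_nil, or_false] at hv
      rcases hv with rfl | rfl | rfl | rfl | rfl
      · exact ⟨g4 0, hgood _ _ (J4Rep.ok_lett 0) (repM_g4 0)⟩
      · exact ⟨g4 1, hgood _ _ (J4Rep.ok_lett 1) (repM_g4 1)⟩
      · exact ⟨g4 2, hgood _ _ (J4Rep.ok_lett 2) (repM_g4 2)⟩
      · exact ⟨g4 3, hgood _ _ (J4Rep.ok_lett 3) (repM_g4 3)⟩
      · exact ⟨1, hgood _ _ ok_one (by rw [repM_one, dec_one])⟩)
  obtain ⟨oP, oQ, -⟩ := sylow_mats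
  have key : ∀ (A : List ℕ) (k : ℕ), k < 5 + prog.length → ok 112 A = true →
      (runProg prog [pack 112 J4Rep.mX, pack 112 J4Rep.mY, pack 112 J4Rep.mYi, pack 112 J4Rep.mT,
        pack 112 (one 112)]).getD k 0 = pack 112 A → ∃ g : J4P, repM g = dec 112 A := by
    intro A k hk hA e
    rw [List.getD_eq_getElem _ _ (by rw [runProg_len]; simpa [Nat.add_comm] using hk)] at e
    obtain ⟨g, B, hBl, hB, hP, hd⟩ := hs _ (List.getElem_mem _)
    have h1 := unpack_pack B hB
    have h2 := unpack_pack A (ok_iff.1 hA).2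
    rw [hBl] at h1
    rw [(ok_iff.1 hA).1] at h2
    rw [← hP, e, h2] at h1
    exact ⟨g, by rw [← hd, h1]⟩
  have hb : Nat.blt progOut.1 (5 + prog.length) = true ∧ Nat.blt progOut.2 (5 + prog.length) = true := by
    decide +kernel
  simp only [Nat.blt_eq] at hb
  exact ⟨key _ _ hb.1 oP h.1, key _ _ hb.2 oQ h.2⟩

theorem eqProd_of {L M : List (List ℕ)} (hL : ∀ X ∈ L, ok 112 X = true) (hM : ∀ X ∈ M, ok 112 X = true)
    (h : (L.map (dec 112)).prod = (M.map (dec 112)).prod) : eqProd L M = true := by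
  have h0 : BitMatrix.Good 112 (pack 112 (one 112)) 1 := ⟨one 112, (ok_iff.1 ok_one).1, one_lt, rfl, dec_one⟩
  obtain ⟨X, hXl, hX, hP, hd⟩ := BitMatrix.Good.prodP L hL h0
  obtain ⟨Y, hYl, hY, hQ, he⟩ := BitMatrix.Good.prodP M hM h0
  rw [one_mul, h] at hd
  rw [one_mul] at he
  have : X = Y := dec_inj (ok_iff.2 ⟨hXl, hX⟩) (ok_iff.2 ⟨hYl, hY⟩) (hd.trans he.symm)
  simp only [eqProd, force_eq, Nat.beq_eq]
  rw [hP, hQ, this]

/-- Two units with the three identities, read as products of lists of matrices. -/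
theorem eleven_abs {mp mq : List ℕ} (oP : ok 112 mp = true) (oQ : ok 112 mq = true)
    (hp : isOne 112 (List.replicate 11 mp) = true) (hq : isOne 112 (List.replicate 11 mq) = true)
    (hne : eqProd [mp, mq] [mq, mp] = false)
    (hca : eqProd (List.replicate 10 mp ++ List.replicate 10 mq ++ [mp, mq] ++ [mp])
      ([mp] ++ (List.replicate 10 mp ++ List.replicate 10 mq ++ [mp, mq])) = true)
    (hcb : eqProd (List.replicate 10 mp ++ List.replicate 10 mq ++ [mp, mq] ++ [mq])
      ([mq] ++ (List.replicate 10 mp ++ List.replicate 10 mq ++ [mp, mq])) = true)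
    {A B : J4Rep.M112ˣ} (hA : (A : J4Rep.M112) = dec 112 mp) (hB : (B : J4Rep.M112) = dec 112 mq) :
    A ^ 11 = 1 ∧ B ^ 11 = 1 ∧ A * B ≠ B * A ∧ (A⁻¹ * B⁻¹ * A * B) * A = A * (A⁻¹ * B⁻¹ * A * B) ∧
      (A⁻¹ * B⁻¹ * A * B) * B = B * (A⁻¹ * B⁻¹ * A * B) := by
  have hm : ∀ L : List (List ℕ), (∀ X ∈ L, X = mp ∨ X = mq) → ∀ X ∈ L, ok 112 X = true := fun L h X hX => by
    rcases h X hX with e | e <;> rw [e] <;> assumption
  have mem : ∀ X ∈ List.replicate 10 mp ++ List.replicate 10 mq ++ [mp, mq], X = mp ∨ X = mq := by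
    intro X hX
    rcases List.mem_append.1 hX with h | h
    · rcases List.mem_append.1 h with h | h
      · exact Or.inl (List.eq_of_mem_replicate h)
      · exact Or.inr (List.eq_of_mem_replicate h)
    · rcases List.mem_cons.1 h with h | h
      · exact Or.inl h
      · exact Or.inr (List.mem_singleton.1 h)
  have pA : A ^ 11 = 1 := Units.ext (by
    have := isOne_spec (n := 112) (fun X hX => by rw [List.eq_of_mem_replicate hX]; exact oP) hp
    rw [List.map_replicate, List.prod_replicate] at this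
    rw [Units.val_pow_eq_pow_val, hA, this, Units.val_one])
  have pB : B ^ 11 = 1 := Units.ext (by
    have := isOne_spec (n := 112) (fun X hX => by rw [List.eq_of_mem_replicate hX]; exact oQ) hq
    rw [List.map_replicate, List.prod_replicate] at this
    rw [Units.val_pow_eq_pow_val, hB, this, Units.val_one])
  have iA : A⁻¹ = A ^ 10 := inv_eq_of_mul_eq_one_right (by rw [← pow_succ']; exact pA)
  have iB : B⁻¹ = B ^ 10 := inv_eq_of_mul_eq_one_right (by rw [← pow_succ']; exact pB)
  have hcc : ∀ {Z : J4Rep.M112ˣ} {X : List ℕ}, (Z : J4Rep.M112) = dec 112 X → (X = mp ∨ X = mq) →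
      eqProd (List.replicate 10 mp ++ List.replicate 10 mq ++ [mp, mq] ++ [X])
        ([X] ++ (List.replicate 10 mp ++ List.replicate 10 mq ++ [mp, mq])) = true →
      (A⁻¹ * B⁻¹ * A * B) * Z = Z * (A⁻¹ * B⁻¹ * A * B) := by
    intro Z X hZ hX h
    have e := eqProd_spec
      (hm _ fun Y hY => (List.mem_append.1 hY).elim (mem Y) fun h => (List.mem_singleton.1 h) ▸ hX)
      (hm _ fun Y hY => (List.mem_append.1 hY).elim (fun h => (List.mem_singleton.1 h) ▸ hX) (mem Y)) h
    rw [iA, iB]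
    apply Units.ext
    simp only [List.map_append, List.map_replicate, List.map_cons, List.map_nil, List.prod_append, List.prod_replicate,
      List.prod_cons, List.prod_nil, mul_one] at e
    simp only [Units.val_mul, Units.val_pow_eq_pow_val, hA, hB, hZ, mul_assoc] at e ⊢
    exact e
  refine ⟨pA, pB, fun e => ?_, hcc hA (Or.inl rfl) hca, hcc hB (Or.inr rfl) hcb⟩
  have e' := congrArg Units.val e
  rw [Units.val_mul, Units.val_mul, hA, hB] at e'
  have : eqProd [mp, mq] [mq, mp] = true := by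
    refine eqProd_of (hm _ ?_) (hm _ ?_) ?_
    · intro X hX
      rcases List.mem_cons.1 hX with h | h
      · exact Or.inl h
      · exact Or.inr (List.mem_singleton.1 h)
    · intro X hX
      rcases List.mem_cons.1 hX with h | h
      · exact Or.inr h
      · exact Or.inl (List.mem_singleton.1 h)
    · simpa only [List.map_cons, List.map_nil, List.prod_cons, List.prod_nil, mul_one] using e'
  rw [hne] at this
  exact Bool.noConfusion this

theorem heis_hom {G K : Type*} [Group G] [Group K] [Finite G] (f : G →* K) (ga gb : G) (h1 : f ga ^ 11 = 1)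
    (h2 : f gb ^ 11 = 1) (h3 : f ga * f gb ≠ f gb * f ga)
    (h4 : ((f ga)⁻¹ * (f gb)⁻¹ * f ga * f gb) * f ga = f ga * ((f ga)⁻¹ * (f gb)⁻¹ * f ga * f gb))
    (h5 : ((f ga)⁻¹ * (f gb)⁻¹ * f ga * f gb) * f gb = f gb * ((f ga)⁻¹ * (f gb)⁻¹ * f ga * f gb)) :
    11 ^ 3 ∣ Nat.card G := by
  haveI : Finite f.range := Finite.of_surjective f.rangeRestrict f.rangeRestrict_surjective
  have h := heis (G := f.range) (a := ⟨f ga, ga, rfl⟩) (b := ⟨f gb, gb, rfl⟩)
    (Subtype.ext h1) (Subtype.ext h2) (fun e => h3 (congrArg Subtype.val e)) rfl (Subtype.ext h4) (Subtype.ext h5)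
  exact h.trans (Subgroup.card_range_dvd f)

theorem dvd_card_eleven : 11 ^ 3 ∣ Nat.card J4P := by
  obtain ⟨⟨ga, ha⟩, gb, hb⟩ := out_rep
  obtain ⟨oP, oQ, hp, hq, hne, hca, hcb⟩ := sylow_mats
  unfold repM at ha hb
  obtain ⟨h1, h2, h3, h4, h5⟩ := eleven_abs oP oQ hp hq hne hca hcb ha hb
  exact heis_hom J4Rep.rep ga gb h1 h2 h3 h4 h5

theorem index_HS : HS.index = 173067389 := by
  obtain ⟨hle, h0⟩ := index_le
  have hc := card_J4P
  have h29 : 29 * 31 * 37 * 43 ∣ Nat.card J4P := by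
    refine Nat.Coprime.mul_dvd_of_dvd_of_dvd (by norm_num) (Nat.Coprime.mul_dvd_of_dvd_of_dvd (by norm_num)
      (Nat.Coprime.mul_dvd_of_dvd_of_dvd (by norm_num) ?_ ?_) ?_) ?_ <;> exact prime_dvd (by simp)
  have hall : 11 ^ 3 * (29 * 31 * 37 * 43) ∣ Nat.card J4P :=
    Nat.Coprime.mul_dvd_of_dvd_of_dvd (by norm_num) dvd_card_eleven h29
  rw [hc, show (2048 * 244823040 : ℕ) = 11 * 45581598720 by norm_num,
    show (11 ^ 3 * (29 * 31 * 37 * 43) : ℕ) = 11 * 173067389 by norm_num, mul_left_comm] at hall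
  have h2 := Nat.dvd_of_mul_dvd_mul_left (by norm_num) hall
  have h3 := (Nat.Coprime.dvd_mul_right (by norm_num : Nat.Coprime 173067389 45581598720)).1 h2
  exact le_antisymm hle (Nat.le_of_dvd (Nat.pos_of_ne_zero h0) h3)

end CfsgLib.Sporadic.CosetCert.J4Index
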