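import Cfsg.Agent.Lib.Sporadic.OutCert.Perm

/-!
# Permutations of 24 points in one number: composition, products along a tree, sifting

The image of a point `i` is the five bit digit at `i`; a product `a b` applies `a` first.
-/

set_option autoImplicit false

namespace CfsgLib.Sporadic.CosetCert.J4Index

open OutCert

/-- Feed a numeral to a function. -/
noncomputable def force {α : Type} (g : ℕ → α) (m : ℕ) : α :=
  Nat.rec (motive := fun _ => α) (g 0) (fun k _ => g (k + 1)) m

theorem force_eq {α : Type} (g : ℕ → α) (m : ℕ) : force g m = g m := by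
  cases m <;> rfl

/-- The image of the digit at a shift. -/
noncomputable def im (a b k : ℕ) : ℕ := Nat.land (Nat.shiftRight b (Nat.mul 5 (Nat.land (Nat.shiftRight a k) 31))) 31

/-- The number with the given digits, written out for the kernel. -/
noncomputable def horner (f : ℕ → ℕ) : ℕ :=
  Nat.add (f 0) (Nat.mul 32 (Nat.add (f 5) (Nat.mul 32 (Nat.add (f 10) (Nat.mul 32 (Nat.add (f 15) (Nat.mul 32 (Nat.add (f 20) (Nat.mul 32 (Nat.add (f 25) (Nat.mul 32 (Nat.add (f 30) (Nat.mul 32 (Nat.add (f 35) (Nat.mul 32 (Nat.add (f 40) (Nat.mul 32 (Nat.add (f 45) (Nat.mul 32 (Nat.add (f 50) (Nat.mul 32 (Nat.add (f 55) (Nat.mul 32 (Nat.add (f 60) (Nat.mul 32 (Nat.add (f 65) (Nat.mul 32 (Nat.add (f 70) (Nat.mul 32 (Nat.add (f 75) (Nat.mul 32 (Nat.add (f 80) (Nat.mul 32 (Nat.add (f 85) (Nat.mul 32 (Nat.add (f 90) (Nat.mul 32 (Nat.add (f 95) (Nat.mul 32 (Nat.add (f 100) (Nat.mul 32 (Nat.add (f 105) (Nat.mul 32 (Nat.add (f 110) (Nat.mul 32 (f 115))))))))))))))))))))))))))))))))))))))))))))))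

/-- The product. -/
noncomputable def pm (a b : ℕ) : ℕ := horner (im a b)

/-- The identity. -/
def idP : ℕ := 0xbdab49ca307b9ac5a928398a418820

/-- The entries of a list are products along a tree: entry `k + 1` is entry `d k` times a generator. -/
noncomputable def tree (gens : List ℕ) (es : List ℕ) : List (ℕ × ℕ) → ℕ → Bool
  | [], _ => true
  | (q, g) :: r, k => Nat.blt q k && (Nat.blt g gens.length &&
      (Nat.beq (pm (es.getD q idP) (gens.getD g idP)) (es.getD k idP) && tree gens es r (k + 1)))

/-- Entries with their inverses, built along a tree from the identity. -/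
noncomputable def treeOK (gens es eis : List ℕ) (d : List (ℕ × ℕ)) : Bool :=
  Nat.beq (es.getD 0 idP) idP && (tree gens es d 1 && (Nat.beq es.length (d.length + 1) &&
    (Nat.beq eis.length es.length &&
      allF (fun k => Nat.beq (pm (es.getD k idP) (eis.getD k idP)) idP) es.length)))

/-- A level: a point, and for each possible image the number of an entry, shifted by one. -/
abbrev Lev : Type := ℕ × List ℕ

/-- Reduce by the levels. -/
noncomputable def sift (eis : List ℕ) : List Lev → ℕ → Bool
  | [], n => Nat.beq n idP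
  | (b, tbl) :: r, n => force (fun v => !(Nat.beq v 0) && force (sift eis r) (pm n (eis.getD (v - 1) idP)))
      (tbl.getD (lk 5 n b) 0)

/-- A level for counting: a point and numbers of entries, which move the point to different places. -/
noncomputable def chain (es : List ℕ) : List (ℕ × List ℕ) → Bool
  | [] => true
  | (b, ks) :: r => Nat.blt b 24 && ((ks.all fun k => Nat.blt k es.length) &&
      (((ks.map fun k => lk 5 (es.getD k idP) b).dedup.length == ks.length) &&
        ((r.all fun M => M.2.all fun k => Nat.beq (lk 5 (es.getD k idP) b) b) && chain es r)))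

theorem im_eq (a b i : ℕ) : im a b (5 * i) = lk 5 b (lk 5 a i) := by
  have h : ∀ m : ℕ, Nat.land m 31 = m % 2 ^ 5 := fun m => Nat.and_two_pow_sub_one_eq_mod m 5
  simp only [im, lk, h]
  rfl

theorem add_mul_32 (x y : ℕ) : Nat.add x (Nat.mul 32 y) = x + 32 * y := rfl

theorem pk_nil : pk 5 [] = 0 := rfl

theorem pk_cons (x : ℕ) (xs : List ℕ) : pk 5 (x :: xs) = x + 32 * pk 5 xs := rfl

theorem horner_eq (f : ℕ → ℕ) :
    horner f = pk 5 ([f 0, f 5, f 10, f 15, f 20, f 25, f 30, f 35, f 40, f 45, f 50, f 55, f 60, f 65, f 70, f 75, f 80, f 85, f 90, f 95, f 100, f 105, f 110, f 115]) := by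
  unfold horner
  simp only [pk_cons, pk_nil]
  simp only [add_mul_32, mul_zero, add_zero]

theorem pm_eq (a b : ℕ) : pm a b = pk 5 ((List.range 24).map fun i => im a b (5 * i)) := by
  rw [pm, horner_eq]
  rfl

theorem lk_pm (a b : ℕ) {i : ℕ} (hi : i < 24) : lk 5 (pm a b) i = lk 5 b (lk 5 a i) := by
  rw [pm_eq, lk_pk 5 (by
      intro x hx
      obtain ⟨j, -, rfl⟩ := List.mem_map.1 hx
      rw [im_eq]
      exact Nat.mod_lt _ (by norm_num)) (by simpa using hi)]
  simp [im_eq]

theorem lk_id {i : ℕ} (hi : i < 24) : lk 5 idP i = i := by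
  interval_cases i <;> decide +kernel

end CfsgLib.Sporadic.CosetCert.J4Index
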