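import Cfsg.Agent.Lib.Sporadic.J4Index.RepDefs

/-!
# Kernel checks with the matrices of degree 112
-/

set_option autoImplicit false
set_option maxRecDepth 100000

namespace CfsgLib.Sporadic.CosetCert.J4Index

open BitMatrix J4Rep

theorem goal_mats : eqProd (mats (tsWord (goal0.1.map Prod.fst))) (mats (tsWord (goal0.2.1.map Prod.fst))) = true ∧
    eqProd (mats (tsWord (goal1.1.map Prod.fst))) (mats (tsWord (goal1.2.1.map Prod.fst))) = true := by decide +kernel

theorem stab_mats : (List.range wordsA.length).all (fun k =>
    eqProd (mats (uWord ++ wordsA.getD k [])) (mats (wordsA.getD k [] ++ uWord))) = true := by decide +kernel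

theorem basis_mats : (List.range 11).all (fun k =>
    ok 112 (matsB.getD k []) && eqProd (mats (bWord k)) [matsB.getD k []]) = true := by decide +kernel

theorem dif_fixed : selRows.all (fun i => Nat.blt i 112) = true ∧
    (List.range 11).all (fun a => (List.range 11).all fun b => selRows.all fun i =>
      Nat.beq (apL (matsB.getD b []) (dif (matsB.getD a []) i)) (dif (matsB.getD a []) i)) = true := by decide +kernel

theorem detect_ok : detect.length = 11 ∧
    detect.all (fun p => p.all fun e => selRows.contains e.1 && Nat.blt e.2 112) = true ∧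
    (List.range 11).all (fun k => (List.range 11).all fun b =>
      mark (detect.getD k []) (matsB.getD b []) == Nat.beq k b) = true := by decide +kernel

theorem span_ok : spanWords.map (fun w => vapp w (2 ^ 111)) = spanMat ∧ ok 112 spanMat = true ∧
    ok 112 spanInv = true ∧ isOne 112 [spanMat, spanInv] = true := by decide +kernel

theorem fix_ok : Nat.beq (vapp [0] (2 ^ 111)) (2 ^ 111) = true ∧ Nat.beq (vapp [1] (2 ^ 111)) (2 ^ 111) = true ∧
    Nat.beq (vapp uWord (2 ^ 111)) (2 ^ 111) = true := by decide +kernel

end CfsgLib.Sporadic.CosetCert.J4Index
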