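import Cfsg.Agent.Lib.Sporadic.J4Index.Checks
import Cfsg.Agent.Lib.Sporadic.J4Index.Group

/-!
# Soundness of the checker
-/

set_option autoImplicit false
set_option maxRecDepth 100000

namespace CfsgLib.Sporadic.CosetCert.J4Index

open OutCert Cfsg Cfsg.Spor J4M24

attribute [local irreducible] pm idP lk sift wT wTi hE hEi bases gensT esT eisT treeT levsT wTn wTin hEn hEin

/-- The subgroup generated by `x` and `y`. -/
noncomputable def XY : Subgroup J4P := Subgroup.closure {gX, gY}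

/-- The conjugate of `t` belonging to a trio. -/
noncomputable def tP (p : ℕ) : J4P := (el (wT p))⁻¹ * gT * el (wT p)

theorem relator (r : FreeGroup J4.Gen) (h : r ∈ J4.extra) :
    PresentedGroup.mk (coxRelators J4.edges ∪ {r | r ∈ J4.extra}) r = 1 := PresentedGroup.one_of_mem (Or.inr h)

theorem rels : gX ^ 2 = 1 ∧ gY ^ 3 = 1 ∧ gT ^ 2 = 1 ∧
    gT⁻¹ * (wordG [1, 0, 1, 0, 2, 0, 2, 0, 1, 0, 1, 0, 1])⁻¹ * gT * wordG [1, 0, 1, 0, 2, 0, 2, 0, 1, 0, 1, 0, 1] = 1 ∧
    gT⁻¹ * gX⁻¹ * gT * gX = 1 ∧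
    (gY * ((wordG [1, 0, 2, 0, 1, 0, 2, 0])⁻¹ * gT * wordG [1, 0, 2, 0, 1, 0, 2, 0])) ^ 3 = 1 ∧
    (wordG ([1, 0, 1, 0, 1, 0, 1] ++ [1, 0, 1, 0, 1, 0, 1] ++ [1, 0, 1, 0, 1, 0, 1]) * gT *
      ((wordG [0, 1, 0, 1, 0, 1, 1, 0, 1, 0, 1, 0, 1, 0, 1, 0, 1, 0, 1, 1])⁻¹ * gT *
        wordG [0, 1, 0, 1, 0, 1, 1, 0, 1, 0, 1, 0, 1, 0, 1, 0, 1, 0, 1, 1])) ^ 2 = 1 := by
  have h : ∀ r ∈ J4.extra, PresentedGroup.mk (coxRelators J4.edges ∪ {r | r ∈ J4.extra}) r = 1 := relator
  simp only [J4.extra, List.forall_mem_cons, map_mul, map_pow, map_inv] at h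
  obtain ⟨h1, h2, -, -, -, -, -, h8, h9, h10, h11, h12, -⟩ := h
  refine ⟨h1, h2, h8, ?_, h10, ?_, ?_⟩
  · refine Eq.trans ?_ h9
    simp only [wordG, List.getD_cons_zero, List.getD_cons_succ, pow_succ, pow_zero, one_mul, mul_one, mul_assoc,
      mul_inv_rev]
    rfl
  · refine Eq.trans ?_ h11
    simp only [wordG, List.getD_cons_zero, List.getD_cons_succ, pow_succ, pow_zero, one_mul, mul_one, mul_assoc,
      mul_inv_rev]
    rfl
  · refine Eq.trans ?_ h12
    simp only [wordG, List.cons_append, List.nil_append, List.getD_cons_zero, List.getD_cons_succ, pow_succ, pow_zero,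
      one_mul, mul_one, mul_assoc, mul_inv_rev]
    rfl

theorem gT_inv : gT⁻¹ = gT := inv_eq_of_mul_eq_one_right (by rw [← pow_two]; exact rels.2.2.1)

theorem gensT_In : ∀ g ∈ gensT, In (Subgroup.centralizer {gT}) g := by
  obtain ⟨-, -, -, hw, hx, -, -⟩ := rels
  have e : gensT = [pX, wordP [1, 0, 1, 0, 2, 0, 2, 0, 1, 0, 1, 0, 1], gensT.getD 2 idP] := by decide +kernel
  have key : ∀ a : J4P, gT⁻¹ * a⁻¹ * gT * a = 1 → a ∈ Subgroup.centralizer {gT} := by
    intro a h
    rw [Subgroup.mem_centralizer_singleton_iff]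
    calc a * gT = a * gT * (gT⁻¹ * a⁻¹ * gT * a) := by rw [h, mul_one]
      _ = gT * a := by group
  have i1 : In (Subgroup.centralizer {gT}) (wordP [1, 0, 1, 0, 2, 0, 2, 0, 1, 0, 1, 0, 1]) :=
    ⟨good_word _, by rw [el_word]; exact key _ hw⟩
  intro g hg
  rw [e] at hg
  simp only [List.mem_cons, List.not_mem_nil, or_false] at hg
  rcases hg with rfl | rfl | rfl
  · exact ⟨⟨_, pr_x⟩, by rw [pr_x.el_eq]; exact key _ hx⟩
  · exact i1
  · exact i1.inv (by decide +kernel)

theorem eisT_In : ∀ v, In (Subgroup.centralizer {gT}) (eisT.getD v idP) := (treeOK_sound gensT_In treeT_ok).2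

theorem wT_spec : ∀ p < 3795, In XY (wT p) ∧ In XY (wTi p) ∧ el (wTi p) = (el (wT p))⁻¹ := by
  have hw := allF_iff.1 w_ok
  intro p
  induction p using Nat.strong_induction_on with
  | _ p ih =>
    intro hp
    have h := hw p hp
    simp only [wOK, Bool.and_eq_true] at h
    obtain ⟨hi, h⟩ := h
    have hg : In XY (wT p) := by
      cases hb : Nat.beq p 0 with
      | true =>
        rw [hb] at h
        simp only [cond_true] at h
        rw [Nat.eq_of_beq_eq_true h]
        exact In.one _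
      | false =>
        rw [hb] at h
        simp only [cond_false, Bool.and_eq_true, Nat.blt_eq] at h
        rw [← Nat.eq_of_beq_eq_true h.2]
        refine (ih _ h.1 (by omega)).1.mul ?_
        cases Nat.beq (lk 16 wPar p % 2) 0
        · exact ⟨⟨_, pr_y⟩, by show el pY ∈ XY; rw [pr_y.el_eq]; exact Subgroup.subset_closure (by simp)⟩
        · exact ⟨⟨_, pr_x⟩, by show el pX ∈ XY; rw [pr_x.el_eq]; exact Subgroup.subset_closure (by simp)⟩
    exact ⟨hg, hg.inv hi, el_inv hg.1 hi⟩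

theorem wT_zero : wT 0 = idP := by
  have h := allF_iff.1 w_ok 0 (by norm_num)
  simp only [wOK, Bool.and_eq_true] at h
  exact Nat.eq_of_beq_eq_true h.2

theorem tP_zero : tP 0 = gT := by rw [tP, wT_zero, el_id, inv_one, one_mul, mul_one]

theorem tP_inv (p : ℕ) : (tP p)⁻¹ = tP p := by
  simp only [tP, mul_inv_rev, inv_inv, gT_inv, mul_assoc]

theorem triOK_sound {p m q : ℕ} (hm : Good m) (h : triOK p m q = true) :
    p < 3795 ∧ q < 3795 ∧ tP q = (el m)⁻¹ * tP p * el m := by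
  simp only [triOK, force_eq, Bool.and_eq_true, Nat.blt_eq] at h
  obtain ⟨hp, hq, hs⟩ := h
  refine ⟨hp, hq, ?_⟩
  obtain ⟨h1, -, -⟩ := wT_spec p hp
  obtain ⟨-, h2, e⟩ := wT_spec q hq
  have hmem := sift_mem eisT_In _ ((h1.1.mul hm).mul h2.1) hs
  rw [el_mul (h1.1.mul hm) h2.1, el_mul h1.1 hm, e, Subgroup.mem_centralizer_singleton_iff] at hmem
  simp only [tP]
  obtain ⟨a, ha⟩ : ∃ a, a = el (wT p) * el m * (el (wT q))⁻¹ := ⟨_, rfl⟩
  rw [← ha] at hmem
  have hq' : el (wT q) = a⁻¹ * el (wT p) * el m := by rw [ha]; group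
  calc (el (wT q))⁻¹ * gT * el (wT q) = (el m)⁻¹ * (el (wT p))⁻¹ * (a * gT * a⁻¹) * el (wT p) * el m := by
        rw [hq']; group
    _ = (el m)⁻¹ * ((el (wT p))⁻¹ * gT * el (wT p)) * el m := by rw [hmem]; group

theorem hE_spec : ∀ h < 483, In XY (hE h) ∧ In XY (hEi h) ∧ el (hEi h) = (el (hE h))⁻¹ := by
  have hh := allF_iff.1 h_ok
  have e : gensT = [pX, wordP [1, 0, 1, 0, 2, 0, 2, 0, 1, 0, 1, 0, 1], gensT.getD 2 idP] := by decide +kernel
  intro h
  induction h using Nat.strong_induction_on with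
  | _ h ih =>
    intro hlt
    have hk := hh h hlt
    simp only [hOK, Bool.and_eq_true] at hk
    obtain ⟨hi, hk⟩ := hk
    have hg : In XY (hE h) := by
      cases hb : Nat.blt (lk 16 hCode h) 4096 with
      | true =>
        rw [hb] at hk
        simp only [cond_true, Bool.and_eq_true, Nat.blt_eq] at hk
        rw [Nat.eq_of_beq_eq_true hk.2]
        exact (wT_spec _ hk.1).2.1
      | false =>
        rw [hb] at hk
        simp only [cond_false, Bool.and_eq_true, Nat.blt_eq] at hk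
        rw [← Nat.eq_of_beq_eq_true hk.2]
        refine (ih _ hk.1 (by omega)).1.mul ?_
        have hxy : ∀ L : List ℕ, In XY (wordP L) := fun L => ⟨good_word L, by
          rw [el_word]
          induction L with
          | nil => exact one_mem _
          | cons a r ih =>
            refine mul_mem ?_ ih
            rcases getD_mem_or [gX, gY, gY⁻¹] a 1 with h | h
            · simp only [List.mem_cons, List.not_mem_nil, or_false] at h
              rcases h with h | h | h <;> rw [h]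
              · exact Subgroup.subset_closure (by simp)
              · exact Subgroup.subset_closure (by simp)
              · exact inv_mem (Subgroup.subset_closure (by simp))
            · rw [h]; exact one_mem _⟩
        rcases Nat.mod_two_eq_zero_or_one (lk 16 hCode h - 4096) with hm | hm
        · rw [hm, e, List.getD_cons_zero]
          exact ⟨⟨_, pr_x⟩, by rw [pr_x.el_eq]; exact Subgroup.subset_closure (by simp)⟩
        · rw [hm, e, List.getD_cons_succ, List.getD_cons_zero]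
          exact hxy _
    exact ⟨hg, hg.inv hi, el_inv hg.1 hi⟩

section

variable (H : Subgroup J4P) (F : List (List Fct)) (P : List (List ℕ))

/-- The same right coset of `H`. -/
def Eqv (u v : J4P) : Prop := u * v⁻¹ ∈ H

variable {H} in
theorem Eqv.refl (u : J4P) : Eqv H u u := by rw [Eqv, mul_inv_cancel]; exact one_mem _

variable {H} in
theorem Eqv.symm {u v : J4P} (h : Eqv H u v) : Eqv H v u := by
  have := inv_mem h
  rwa [mul_inv_rev, inv_inv] at this

variable {H} in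
theorem Eqv.trans {u v w : J4P} (h : Eqv H u v) (k : Eqv H v w) : Eqv H u w := by
  have := mul_mem h k
  rwa [mul_assoc, inv_mul_cancel_left] at this

variable {H} in
theorem Eqv.mul {u v : J4P} (h : Eqv H u v) (c : J4P) : Eqv H (u * c) (v * c) := by
  rwa [Eqv, mul_inv_rev, mul_assoc, mul_inv_cancel_left]

/-- The element of a node. -/
noncomputable def gN (i : ℕ) : J4P := ((P.getD i []).map tP).prod

/-- The product of the conjugates of `t` in a base relation with its permutation. -/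
noncomputable def baseVal (b : ℕ) : J4P := ((baseAt b).1.map tP).prod * el (baseAt b).2.1

/-- The meaning of a step. -/
def Holds (k : ℕ) : Prop :=
  Good (fM (getF F k)) ∧ el (fMi (getF F k)) = (el (fM (getF F k)))⁻¹ ∧ Good (fMi (getF F k)) ∧
    (isSame (getF F k) = true → Eqv H (gN P (fI (getF F k))) (gN P (fJ (getF F k)) * el (fM (getF F k)))) ∧
    (isEdge (getF F k) = true → fP (getF F k) < 3795 ∧
      Eqv H (gN P (fI (getF F k)) * tP (fP (getF F k))) (gN P (fJ (getF F k)) * el (fM (getF F k))))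

theorem base_good : ∀ b, Good (baseAt b).2.1 → ∀ b', b' = b → Good (baseAt b').2.1 := fun _ h _ e => e ▸ h

variable {H F P}

theorem chn_sound {k : ℕ} (hk : ∀ l < k, Holds H F P l) : ∀ (L : List ℕ) {j m : ℕ} {K : ℕ → ℕ → Bool},
    Good m → chn F k L j m K = true →
      ∃ j' m', K j' m' = true ∧ Good m' ∧ Eqv H (gN P j * el m) (gN P j' * el m') := by
  intro L
  induction L with
  | nil => intro j m K hm h; exact ⟨j, m, h, hm, Eqv.refl _⟩
  | cons c r ih =>
    intro j m K hm h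
    simp only [chn, Bool.and_eq_true, Nat.blt_eq] at h
    obtain ⟨⟨hc, hs⟩, h⟩ := h
    obtain ⟨g1, g2, g3, g4, -⟩ := hk _ hc
    have g4 := g4 hs
    cases hb : Nat.beq (c % 2) 0 with
    | true =>
      rw [hb] at h
      simp only [cond_true, force_eq, Bool.and_eq_true] at h
      obtain ⟨j', m', a, b, e⟩ := ih (g1.mul hm) h.2
      refine ⟨j', m', a, b, Eqv.trans ?_ e⟩
      rw [el_mul g1 hm, ← mul_assoc, ← Nat.eq_of_beq_eq_true h.1]
      exact g4.mul _
    | false =>
      rw [hb] at h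
      simp only [cond_false, force_eq, Bool.and_eq_true] at h
      obtain ⟨j', m', a, b, e⟩ := ih (g3.mul hm) h.2
      refine ⟨j', m', a, b, Eqv.trans ?_ e⟩
      rw [el_mul g3 hm, g2, ← mul_assoc, ← Nat.eq_of_beq_eq_true h.1]
      refine Eqv.mul ?_ _
      have := g4.symm.mul (el (fM (getF F (c / 2))))⁻¹
      rwa [mul_inv_cancel_right] at this

theorem rchn_sound {k g : ℕ} (hg : Good g) (hk : ∀ l < k, Holds H F P l) :
    ∀ (qs L : List ℕ) {j ni : ℕ} {K : ℕ → ℕ → Bool}, Good ni → rchn F k g qs L j ni K = true →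
      ∃ j' ni', K j' ni' = true ∧ Good ni' ∧
        Eqv H (gN P j * (el ni)⁻¹ * (qs.map fun q => (el g)⁻¹ * tP q * el g).prod) (gN P j' * (el ni')⁻¹) := by
  intro qs
  induction qs with
  | nil =>
    intro L j ni K hni h
    cases L with
    | nil => exact ⟨j, ni, h, hni, by rw [List.map_nil, List.prod_nil, mul_one]; exact Eqv.refl _⟩
    | cons c r => simp [rchn] at h
  | cons q qs ih =>
    intro L j ni K hni h
    cases L with
    | nil => simp [rchn] at h
    | cons c r =>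
      simp only [rchn, force_eq, Bool.and_eq_true, Nat.blt_eq] at h
      obtain ⟨⟨⟨⟨⟨-, hc⟩, he⟩, hj⟩, ht⟩, h⟩ := h
      obtain ⟨g1, g2, g3, -, g5⟩ := hk _ hc
      obtain ⟨-, g5⟩ := g5 he
      obtain ⟨-, -, et⟩ := triOK_sound (hg.mul hni) ht
      obtain ⟨j', n', a, b, e⟩ := ih r (hni.mul g3) h
      refine ⟨j', n', a, b, Eqv.trans ?_ e⟩
      rw [List.map_cons, List.prod_cons, el_mul hni g3, g2, mul_inv_rev, inv_inv, ← mul_assoc]
      refine Eqv.mul ?_ _
      rw [← Nat.eq_of_beq_eq_true hj, ← mul_assoc]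
      have := g5.mul (el ni)⁻¹
      rw [et, el_mul hg hni] at this
      simp only [mul_inv_rev, mul_assoc, mul_inv_cancel, mul_one] at this ⊢
      exact this

theorem prod_rev_inv : ∀ qs : List ℕ, (qs.reverse.map tP).prod = ((qs.map tP).prod)⁻¹ := by
  intro qs
  induction qs with
  | nil => simp
  | cons q r ih =>
    rw [List.reverse_cons, List.map_append, List.prod_append, ih]
    simp [tP_inv]

theorem conj_prod (a : J4P) : ∀ qs : List ℕ,
    (qs.map fun q => a⁻¹ * tP q * a).prod = a⁻¹ * (qs.map tP).prod * a := by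
  intro qs
  induction qs with
  | nil => simp
  | cons q r ih => rw [List.map_cons, List.prod_cons, ih, List.map_cons, List.prod_cons]; group

/-- What the checker needs to know about `H`. -/
structure Hyp (H : Subgroup J4P) (P : List (List ℕ)) (nb : ℕ) : Prop where
  /-- It contains `x` and `y`. -/
  xy : XY ≤ H
  /-- The first path is empty. -/
  p0 : P.getD 0 [] = []
  /-- The base relations. -/
  base : ∀ b < nb, Good (baseAt b).2.1 ∧ baseVal b ∈ H ∧ (b < 10 → baseVal b = 1)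

theorem step_sound {nb : ℕ} (hy : Hyp H P nb) {k : ℕ} (hk : ∀ l < k, Holds H F P l)
    (h : stepOK F P nb k = true) : Holds H F P k := by
  have g0 : gN P 0 = 1 := by rw [gN, hy.p0]; rfl
  unfold stepOK at h
  simp only [Bool.and_eq_true] at h
  obtain ⟨⟨hmi, hmi'⟩, h⟩ := h
  suffices hh : Good (fM (getF F k)) ∧
      (isSame (getF F k) = true → Eqv H (gN P (fI (getF F k))) (gN P (fJ (getF F k)) * el (fM (getF F k)))) ∧
      (isEdge (getF F k) = true → fP (getF F k) < 3795 ∧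
        Eqv H (gN P (fI (getF F k)) * tP (fP (getF F k))) (gN P (fJ (getF F k)) * el (fM (getF F k)))) by
    exact ⟨hh.1, el_inv hh.1 hmi, hh.1.inv hmi, hh.2⟩
  generalize getF F k = S at h hmi hmi'
  unfold ruleOK at h
  split at h
  · rename_i hr
    have hs : isEdge S = false := by simp [isEdge, hr, Nat.beq]
    simp only [Bool.and_eq_true, Bool.or_eq_true] at h
    obtain ⟨⟨hi, hj⟩, hm⟩ := h
    have key : In XY (fM S) := by
      rcases hm with hm | hm <;> rw [Nat.eq_of_beq_eq_true hm]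
      · exact ⟨⟨_, pr_x⟩, by show el pX ∈ _; rw [pr_x.el_eq]; exact Subgroup.subset_closure (by simp)⟩
      · exact ⟨⟨_, pr_y⟩, by show el pY ∈ _; rw [pr_y.el_eq]; exact Subgroup.subset_closure (by simp)⟩
    refine ⟨key.1, fun _ => ?_, fun e => by rw [hs] at e; exact Bool.noConfusion e⟩
    rw [Nat.eq_of_beq_eq_true hi, Nat.eq_of_beq_eq_true hj, g0, one_mul, Eqv, one_mul]
    exact inv_mem (hy.xy key.2)
  · rename_i hr
    have hs : isSame S = false := by simp [isSame, hr, Nat.beq]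
    simp only [Bool.and_eq_true, Nat.blt_eq, beq_iff_eq] at h
    obtain ⟨⟨hm, hp⟩, hP⟩ := h
    rw [Nat.eq_of_beq_eq_true hm]
    refine ⟨good_id, fun e => by rw [hs] at e; exact Bool.noConfusion e, fun _ => ⟨hp, ?_⟩⟩
    rw [el_id, mul_one]
    unfold gN
    rw [hP, List.map_append, List.prod_append, List.map_singleton, List.prod_singleton]
    exact Eqv.refl _
  · rename_i hr
    have hs : isEdge S = false := by simp [isEdge, hr, Nat.beq]
    obtain ⟨j, m, hK, hg, he⟩ := chn_sound hk _ good_id h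
    simp only [Bool.and_eq_true] at hK
    rw [el_id, mul_one, Nat.eq_of_beq_eq_true hK.1, Nat.eq_of_beq_eq_true hK.2] at he
    exact ⟨Nat.eq_of_beq_eq_true hK.2 ▸ hg, fun _ => he, fun e => by rw [hs] at e; exact Bool.noConfusion e⟩
  · rename_i hr
    have hs : isSame S = false := by simp [isSame, hr, Nat.beq]
    simp only [Bool.and_eq_true, Nat.blt_eq] at h
    obtain ⟨⟨hA, hE⟩, hch⟩ := h
    obtain ⟨j0, m0, hK, gm0, e0⟩ := chn_sound hk _ good_id hch
    simp only [Bool.and_eq_true] at hK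
    obtain ⟨⟨hj0, ht⟩, hK⟩ := hK
    obtain ⟨b, m1, hK1, gm1, e1⟩ := chn_sound hk _ good_id hK
    simp only [Bool.and_eq_true] at hK1
    obtain ⟨hb, hm⟩ := hK1
    obtain ⟨gE, -, -, -, he⟩ := hk _ hA
    obtain ⟨-, he⟩ := he hE
    obtain ⟨-, hp, et⟩ := triOK_sound gm0 ht
    have hm := Nat.eq_of_beq_eq_true hm
    refine ⟨hm ▸ (gm1.mul gE).mul gm0, fun e => by rw [hs] at e; exact Bool.noConfusion e, fun _ => ⟨hp, ?_⟩⟩
    rw [el_id, mul_one, Nat.eq_of_beq_eq_true hj0] at e0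
    rw [el_id, mul_one, Nat.eq_of_beq_eq_true hb] at e1
    rw [← hm, el_mul (gm1.mul gE) gm0, el_mul gm1 gE, et]
    have a1 := e0.mul ((el m0)⁻¹ * tP (fP (getF F (fA S))) * el m0)
    rw [show ∀ u v w : J4P, u * v * (v⁻¹ * w * el m0) = u * w * el m0 from fun u v w => by group] at a1
    have a2 := he.mul (el m0)
    have a3 := (e1.mul (el (fM (getF F (fA S))))).mul (el m0)
    refine a1.trans (a2.trans ?_)
    simp only [mul_assoc] at a3 ⊢
    exact a3
  · rename_i hr
    have hs : isSame S = false := by simp [isSame, hr, Nat.beq]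
    simp only [Bool.and_eq_true, Nat.blt_eq] at h
    obtain ⟨⟨⟨⟨⟨hA, hE⟩, hi⟩, hj⟩, hm⟩, ht⟩ := h
    obtain ⟨-, e2, g3, -, he⟩ := hk _ hA
    obtain ⟨-, he⟩ := he hE
    obtain ⟨-, hp, et⟩ := triOK_sound g3 ht
    rw [Nat.eq_of_beq_eq_true hm]
    refine ⟨g3, fun e => by rw [hs] at e; exact Bool.noConfusion e, fun _ => ⟨hp, ?_⟩⟩
    rw [et, e2, inv_inv, Nat.eq_of_beq_eq_true hi, Nat.eq_of_beq_eq_true hj]
    have := (he.symm.mul (tP (fP (getF F (fA S))))).mul (el (fM (getF F (fA S))))⁻¹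
    have tt : tP (fP (getF F (fA S))) * tP (fP (getF F (fA S))) = 1 := by
      nth_rewrite 1 [← tP_inv]
      exact inv_mul_cancel _
    rw [mul_assoc _ (tP _) (tP _), tt, mul_one] at this
    simpa only [mul_assoc] using this
  · rename_i hr
    have hs : isEdge S = false := by simp [isEdge, hr, Nat.beq]
    simp only [Bool.and_eq_true, Nat.blt_eq] at h
    obtain ⟨⟨⟨⟨⟨⟨⟨⟨hA, hB⟩, hEA⟩, hEB⟩, hi⟩, hp⟩, hsi⟩, hsj⟩, hm⟩ := h
    obtain ⟨gA, eA, gAi, -, hA'⟩ := hk _ hA
    obtain ⟨gB, -, -, -, hB'⟩ := hk _ hB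
    rw [Nat.eq_of_beq_eq_true hm]
    refine ⟨gB.mul gAi, fun _ => ?_, fun e => by rw [hs] at e; exact Bool.noConfusion e⟩
    obtain ⟨-, hA'⟩ := hA' hEA
    obtain ⟨-, hB'⟩ := hB' hEB
    rw [← Nat.eq_of_beq_eq_true hi, ← Nat.eq_of_beq_eq_true hp] at hB'
    have := (hA'.symm.trans hB').mul (el (fM (getF F (fA S))))⁻¹
    rw [mul_inv_cancel_right] at this
    rwa [Nat.eq_of_beq_eq_true hsi, Nat.eq_of_beq_eq_true hsj, el_mul gB gAi, eA, ← mul_assoc]
  · rename_i hr
    have hs : isSame S = false := by simp [isSame, hr, Nat.beq]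
    unfold relOK at h
    cases hps : (baseAt (fA S)).1 with
    | nil => simp [hps] at h
    | cons q0 qs =>
      simp only [hps, force_eq, Bool.and_eq_true, Bool.or_eq_true, Nat.blt_eq] at h
      obtain ⟨⟨⟨hb, hh⟩, h01⟩, ht0, hrc⟩ := h
      obtain ⟨gh, ghi, ehi⟩ := hE_spec _ hh
      obtain ⟨gb, hbH, hb1⟩ := hy.base _ hb
      have hp : fP S < 3795 := by
        simp only [triOK, Bool.and_eq_true, Nat.blt_eq] at ht0
        exact ht0.2.1
      obtain ⟨gw, gwi, ewi⟩ := wT_spec _ hp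
      have hg : In XY (pm (hE (fB S)) (wT (fP S))) := gh.mul gw
      have hni : Good (pm (pm (pm (wTi (fP S)) (hEi (fB S))) (baseAt (fA S)).2.1) (pm (hE (fB S)) (wT (fP S)))) :=
        ((gwi.1.mul ghi.1).mul gb).mul hg.1
      obtain ⟨j, n, hK, gn, e⟩ := rchn_sound hg.1 hk _ _ hni hrc
      simp only [Bool.and_eq_true] at hK
      rw [Nat.eq_of_beq_eq_true hK.1, Nat.eq_of_beq_eq_true hK.2] at e
      have gS : Good (fM S) := Good.inv (Nat.eq_of_beq_eq_true hK.2 ▸ gn) hmi'
      refine ⟨gS, fun e => by rw [hs] at e; exact Bool.noConfusion e, fun _ => ⟨hp, ?_⟩⟩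
      rw [el_inv gS hmi, inv_inv, el_mul ((gwi.1.mul ghi.1).mul gb) hg.1, el_mul (gwi.1.mul ghi.1) gb,
        el_mul gwi.1 ghi.1, ewi, ehi, el_mul gh.1 gw.1, conj_prod, prod_rev_inv] at e
      obtain ⟨-, -, et⟩ := triOK_sound hg.1 ht0
      rw [el_mul gh.1 gw.1] at et
      obtain ⟨a, ha⟩ : ∃ a, a = el (hE (fB S)) * el (wT (fP S)) := ⟨_, rfl⟩
      obtain ⟨v, hv⟩ : ∃ v, v = baseVal (fA S) := ⟨_, rfl⟩
      have hv' : v = tP q0 * (qs.map tP).prod * el (baseAt (fA S)).2.1 := by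
        rw [hv, baseVal, hps, List.map_cons, List.prod_cons]
      rw [show (el (wT (fP S)))⁻¹ * (el (hE (fB S)))⁻¹ = a⁻¹ by rw [ha, mul_inv_rev], ← ha] at e
      refine Eqv.trans ?_ e
      rw [et, ← ha]
      have e3 : gN P (fI S) * (a⁻¹ * el (baseAt (fA S)).2.1 * a)⁻¹ * (a⁻¹ * ((qs.map tP).prod)⁻¹ * a) =
          gN P (fI S) * (a⁻¹ * v⁻¹ * a) * (a⁻¹ * tP q0 * a) := by
        rw [hv']; group
      rw [e3]
      refine Eqv.mul ?_ _
      rcases h01 with hb' | hi
      · rw [← hv] at hb1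
        rw [hb1 hb', inv_one, mul_one, inv_mul_cancel, mul_one]
        exact Eqv.refl _
      · rw [Nat.eq_of_beq_eq_true hi, g0, one_mul, Eqv, one_mul]
        have haH : a ∈ H := ha ▸ hy.xy (mul_mem gh.2 gw.2)
        exact inv_mem (mul_mem (mul_mem (inv_mem haH) (inv_mem (hv ▸ hbH))) haH)
  · rename_i hr
    have hs : isSame S = false := by simp [isSame, hr, Nat.beq]
    unfold rel1OK at h
    simp only [Bool.and_eq_true] at h
    obtain ⟨⟨⟨⟨⟨hb, h10⟩, hh⟩, hi⟩, hP1⟩, h⟩ := h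
    split at h
    case h_2 => exact Bool.noConfusion h
    case h_1 q0 q1 q2 c hps hpre =>
      simp only [Bool.and_eq_true, Nat.blt_eq] at h
      obtain ⟨⟨⟨⟨⟨⟨⟨⟨⟨-, hc⟩, hE⟩, hEi⟩, hn0⟩, hj⟩, hm⟩, t0⟩, t1⟩, t2⟩ := h
      obtain ⟨gE, -, -, -, he⟩ := hk _ hc
      obtain ⟨-, he⟩ := he hE
      obtain ⟨gh, -, -⟩ := hE_spec _ (Nat.le_of_ble_eq_true hh)
      obtain ⟨-, hbH, -⟩ := hy.base _ (Nat.le_of_ble_eq_true hb)
      obtain ⟨-, -, e0⟩ := triOK_sound gh.1 t0
      obtain ⟨-, hp, e1⟩ := triOK_sound gh.1 t1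
      obtain ⟨-, -, e2⟩ := triOK_sound gh.1 t2
      rw [Nat.eq_of_beq_eq_true hm, Nat.eq_of_beq_eq_true hj]
      refine ⟨gE, fun e => by rw [hs] at e; exact Bool.noConfusion e, fun _ => ⟨hp, ?_⟩⟩
      rw [Nat.eq_of_beq_eq_true hi]
      rw [Nat.eq_of_beq_eq_true hEi, g0, one_mul] at he
      refine Eqv.trans ?_ he
      rw [show gN P 1 = tP 0 by unfold gN; rw [beq_iff_eq.1 hP1]; simp, Eqv, tP_inv, e0, e1, e2]
      rw [baseVal, hps, Nat.eq_of_beq_eq_true hn0, el_id, mul_one] at hbH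
      simp only [List.map_cons, List.map_nil, List.prod_cons, List.prod_nil, mul_one] at hbH
      have := mul_mem (mul_mem (inv_mem (hy.xy gh.2)) hbH) (hy.xy gh.2)
      simpa only [mul_assoc, mul_inv_cancel_left, inv_mul_cancel_left] using this
  · exact Bool.noConfusion h

end

end CfsgLib.Sporadic.CosetCert.J4Index
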