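import Cfsg.Agent.Lib.Sporadic.J4Index.StepsN0

/-!
# All steps of an enumeration
-/

set_option autoImplicit false
set_option maxRecDepth 100000

namespace CfsgLib.Sporadic.CosetCert.J4Index

/-- The steps. -/
def stepsN : List (List Fct) := [stepsN0, stepsN1, stepsN2, stepsN3, stepsN4, stepsN5]

/-- The paths to the nodes. -/
def pathsN : List (List ℕ) := [[], [0], [0, 10], [0, 10, 1940], [0, 10, 1940, 1859], [0, 10, 1940, 2749], [0, 10, 1940, 2749, 2396], [0, 1], [0, 4], [0, 10, 1], [0, 10, 2], [0, 10, 9], [0, 10, 22], [0, 1, 2], [0, 1, 3], [0, 1, 4], [0, 1, 5], [0, 1, 24], [0, 1, 94], [0, 1, 137], [0, 4, 80], [0, 4, 307], [0, 4, 380], [0, 4, 390], [0, 4, 3270]]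

end CfsgLib.Sporadic.CosetCert.J4Index
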