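import Cfsg.Agent.Lib.Sporadic.J4Index.UniDefs

/-!
# Kernel checks for the sextets and the paths
-/

set_option autoImplicit false
set_option maxRecDepth 100000

namespace CfsgLib.Sporadic.CosetCert.J4Index

open OutCert BitMatrix

theorem stepsN_all : (List.range 329).all (stepOK stepsN pathsN 10) = true := by decide +kernel

theorem goals_ok : goalOK goal0 = true ∧ goalOK goal1 = true ∧
    pchn stepsN 329 pathU 0 idP (fun j ni => Nat.beq j 3 && Nat.beq ni niU) = true := by decide +kernel

theorem stabA_ok : Nat.beq (pm niU mU) idP = true ∧ gensA.length = stabA.length ∧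
    wordsA.length = stabA.length ∧
    (List.range stabA.length).all (fun k => Nat.blt (stabA.getD k 0) 329 && isSame (getF stepsN (stabA.getD k 0)) &&
      Nat.beq (fI (getF stepsN (stabA.getD k 0))) 3 && Nat.beq (fJ (getF stepsN (stabA.getD k 0))) 3 &&
      Nat.beq (pm (pm niU (fM (getF stepsN (stabA.getD k 0)))) mU) (gensA.getD k 0) &&
      Nat.beq (wordP (wordsA.getD k [])) (gensA.getD k 0)) = true ∧
    treeOK gensA esA eisA treeA = true := by decide +kernel

theorem trioWords_ok : trioWords.all (fun e => Nat.blt e.1 3795 && Nat.beq (wordP e.2) (wT e.1)) = true ∧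
    ((goal0.1 ++ goal0.2.1 ++ goal1.1 ++ goal1.2.1 ++ pathU).all fun e => Nat.beq (wordP (tWord e.1)) (wT e.1)) = true :=
  by decide +kernel

theorem sextets_ok : allF sOK 1771 = true := by decide +kernel

theorem imgs_ok : allF imgOK 1771 = true := by decide +kernel

theorem lines_ok : allF (fun k => Nat.blt k 2 || lineOK k) nLines = true := by decide +kernel

theorem seeds_eq : lA 0 = 213 ∧ lB 0 = 199 ∧ lC 0 = 153 ∧ lA 1 = 0 ∧ lB 1 = 1 ∧ lC 1 = 933 ∧
    swapped.all (fun k => Nat.blt k nLines) = true ∧
    swapped.map (fun k => (lA k, lB k, lC k)) = [(199, 213, 153), (213, 153, 199), (1, 0, 933), (0, 933, 1)] := by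
  decide +kernel

theorem orders_ok : allF (fun v => comOK v && spanOK v) 1771 = true := by decide +kernel

theorem basisW_ok : basis.length = 11 ∧ wordsB.length = 11 ∧
    (List.range 11).all (fun k => Nat.blt (basis.getD k 0) 1771 &&
      Nat.beq (wordP (wordsB.getD k [])) (sW (basis.getD k 0))) = true := by decide +kernel

end CfsgLib.Sporadic.CosetCert.J4Index
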