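import Cfsg.Agent.Lib.Sporadic.J4Index.Words
import Cfsg.Agent.Lib.Sporadic.J4Index.UniCheck
import Cfsg.Agent.Lib.Sporadic.J4Index.RepCheck
import Cfsg.Agent.Lib.Sporadic.J4Index.Index

/-!
# The conjugates of `u` under `⟨x, y⟩` commute; eleven of them generate the others
-/

set_option autoImplicit false
set_option maxRecDepth 100000

namespace CfsgLib.Sporadic.CosetCert.J4Index

open OutCert BitMatrix Cfsg Cfsg.Spor J4M24

attribute [local irreducible] pm idP lk sift wT wTi hE hEi stepsN pathsN sW sWi eisA esA gensA treeA levsA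
  sWn sWin sImg lineData comOrd spanOrd BitMatrix.mulP BitMatrix.ok BitMatrix.one isOne dec triOK sxOK

theorem pathN_zero : pathsN.getD 0 [] = [] := by decide +kernel

theorem holdsN : ∀ k < 329, Holds XY stepsN pathsN k :=
  all_holds (hyp_of_xy le_rfl pathN_zero) fun k hk => List.all_eq_true.1 stepsN_all k (List.mem_range.2 hk)

theorem gNN_zero : gN pathsN 0 = 1 := by rw [gN, pathN_zero]; rfl

theorem pchn_sound : ∀ (L : List (ℕ × ℕ)) {j ni : ℕ} {K : ℕ → ℕ → Bool}, Good ni →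
    pchn stepsN 329 L j ni K = true → ∃ j' ni', K j' ni' = true ∧ Good ni' ∧
      Eqv XY (gN pathsN j * (el ni)⁻¹ * ((L.map Prod.fst).map tP).prod) (gN pathsN j' * (el ni')⁻¹) := by
  intro L
  induction L with
  | nil => intro j ni K hni h; exact ⟨j, ni, h, hni, by simpa using Eqv.refl _⟩
  | cons c r ih =>
    obtain ⟨q, e⟩ := c
    intro j ni K hni h
    simp only [pchn, force_eq, Bool.and_eq_true, Nat.blt_eq] at h
    obtain ⟨⟨⟨⟨hk, hE⟩, hI⟩, ht⟩, h⟩ := h
    obtain ⟨g1, g2, g3, -, g5⟩ := holdsN _ hk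
    obtain ⟨-, g5⟩ := g5 hE
    obtain ⟨-, -, et⟩ := triOK_sound hni ht
    obtain ⟨j', n', a, b, he⟩ := ih (hni.mul g3) h
    refine ⟨j', n', a, b, Eqv.trans ?_ he⟩
    rw [List.map_cons, List.map_cons, List.prod_cons, el_mul hni g3, g2, mul_inv_rev, inv_inv, ← mul_assoc]
    refine Eqv.mul ?_ _
    rw [← Nat.eq_of_beq_eq_true hI, ← mul_assoc]
    have := g5.mul (el ni)⁻¹
    rw [et] at this
    simp only [mul_assoc, mul_inv_cancel, mul_one] at this ⊢
    exact this

theorem tP_word {p : ℕ} (hw : Nat.beq (wordP (tWord p)) (wT p) = true) (hs : (tWord p).all (fun a => Nat.blt a 3) = true) :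
    tP p = w4 (invL (tWord p) ++ [3] ++ tWord p) ∧ tP p = (wordG (tWord p))⁻¹ * gT * wordG (tWord p) := by
  have e : el (wT p) = wordG (tWord p) := by rw [← Nat.eq_of_beq_eq_true hw, el_word]
  refine ⟨?_, by rw [tP, e]⟩
  rw [w4_append, w4_append, w4_invL, w4_small hs, tP, e]
  simp [w4, g4]

theorem tWord_small : ((goal0.1 ++ goal0.2.1 ++ goal1.1 ++ goal1.2.1 ++ pathU).all fun e =>
    (tWord e.1).all fun a => Nat.blt a 3) = true := by decide +kernel

theorem prod_tsWord : ∀ L : List (ℕ × ℕ),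
    (∀ e ∈ L, e ∈ goal0.1 ++ goal0.2.1 ++ goal1.1 ++ goal1.2.1 ++ pathU) →
      ((L.map Prod.fst).map tP).prod = w4 (tsWord (L.map Prod.fst)) := by
  intro L
  induction L with
  | nil => intro _; rfl
  | cons c r ih =>
    intro h
    have hc := h c List.mem_cons_self
    rw [List.map_cons, List.map_cons, List.prod_cons, ih fun e he => h e (List.mem_cons_of_mem _ he),
      (tP_word (List.all_eq_true.1 trioWords_ok.2 c hc) (List.all_eq_true.1 tWord_small c hc)).1, ← w4_append]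
    rfl

theorem goal_sound {g : List (ℕ × ℕ) × List (ℕ × ℕ) × ℕ} (h : goalOK g = true)
    (hsub : ∀ e ∈ g.1 ++ g.2.1, e ∈ goal0.1 ++ goal0.2.1 ++ goal1.1 ++ goal1.2.1 ++ pathU)
    (hm : eqProd (mats (tsWord (g.1.map Prod.fst))) (mats (tsWord (g.2.1.map Prod.fst))) = true) :
    ((g.1.map Prod.fst).map tP).prod = ((g.2.1.map Prod.fst).map tP).prod := by
  unfold goalOK at h
  obtain ⟨a, na, h, gna, ea⟩ := pchn_sound _ good_id h
  obtain ⟨b, nb, h, gnb, eb⟩ := pchn_sound _ good_id h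
  rw [gNN_zero, el_id, inv_one, mul_one, one_mul] at ea eb
  simp only [Bool.and_eq_true, Nat.beq_eq] at h
  obtain ⟨rfl, h⟩ := h
  have e : Eqv XY (gN pathsN a * (el na)⁻¹) (gN pathsN a * (el nb)⁻¹) := by
    cases hb : Nat.beq g.2.2 0 with
    | true =>
      rw [hb, cond_true, Nat.beq_eq] at h
      rw [h]
      exact Eqv.refl _
    | false =>
      rw [hb, cond_false] at h
      simp only [Bool.and_eq_true, Nat.blt_eq, Nat.beq_eq] at h
      obtain ⟨⟨⟨⟨hk, hS⟩, hI⟩, hJ⟩, hp⟩ := h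
      obtain ⟨g1, -, -, g4, -⟩ := holdsN _ hk
      have g4 := g4 hS
      rw [hI, hJ] at g4
      rw [← hp, el_mul gnb g1, mul_inv_rev, ← mul_assoc]
      have := g4.mul (el (fM (getF stepsN (g.2.2 - 1))))⁻¹
      rw [mul_inv_cancel_right] at this
      exact this.mul _
  have hX := (ea.trans e).trans eb.symm
  have hA := prod_tsWord g.1 fun x hx => hsub x (List.mem_append_left _ hx)
  have hB := prod_tsWord g.2.1 fun x hx => hsub x (List.mem_append_right _ hx)
  have hr : repM (((g.1.map Prod.fst).map tP).prod) = repM (((g.2.1.map Prod.fst).map tP).prod) := by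
    rw [hA, hB]
    exact repM_eq_of hm
  have := XY_rep_inj hX (one_mem _) (by
    rw [repM_mul, hr, ← repM_mul, mul_inv_cancel])
  exact mul_inv_eq_one.1 this

/-- The conjugate of `u` of a sextet. -/
noncomputable def uS (k : ℕ) : J4P := (el (sW k))⁻¹ * gU * el (sW k)

theorem sW_spec : ∀ p < 1771, In XY (sW p) ∧ In XY (sWi p) ∧ el (sWi p) = (el (sW p))⁻¹ := by
  have hw := allF_iff.1 sextets_ok
  intro p
  induction p using Nat.strong_induction_on with
  | _ p ih =>
    intro hp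
    have h := hw p hp
    simp only [sOK, Bool.and_eq_true] at h
    obtain ⟨hi, h⟩ := h
    have hg : In XY (sW p) := by
      cases hb : Nat.beq p 0 with
      | true =>
        rw [hb, cond_true] at h
        rw [Nat.eq_of_beq_eq_true h]
        exact In.one _
      | false =>
        rw [hb] at h
        simp only [cond_false, Bool.and_eq_true, Nat.blt_eq] at h
        rw [← Nat.eq_of_beq_eq_true h.2]
        refine (ih _ h.1 (by omega)).1.mul ?_
        cases Nat.beq (lk 16 sPar p % 2) 0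
        · exact ⟨⟨_, pr_y⟩, by show el pY ∈ XY; rw [pr_y.el_eq]; exact Subgroup.subset_closure (by simp)⟩
        · exact ⟨⟨_, pr_x⟩, by show el pX ∈ XY; rw [pr_x.el_eq]; exact Subgroup.subset_closure (by simp)⟩
    exact ⟨hg, hg.inv hi, el_inv hg.1 hi⟩

theorem sW_zero : sW 0 = idP := by
  have h := allF_iff.1 sextets_ok 0 (by norm_num)
  simp only [sOK, Bool.and_eq_true] at h
  exact Nat.eq_of_beq_eq_true h.2

theorem uS_zero : uS 0 = gU := by rw [uS, sW_zero, el_id, inv_one, one_mul, mul_one]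

theorem gU_word : gU = w4 uWord := by
  rw [show uWord = ([1] ++ invL wU ++ [3] ++ wU) ++ (([1] ++ invL wU ++ [3] ++ wU) ++ ([1] ++ invL wU ++ [3] ++ wU))
    from by decide +kernel]
  simp only [w4_append, w4_invL]
  rw [w4_small (L := wU) (by decide +kernel), gU, show w4 [1] = gY from mul_one _, show w4 [3] = gT from mul_one _]
  simp only [pow_succ, pow_zero, one_mul, mul_assoc]

theorem pathU_eq : pathU.map Prod.fst = [83, 65, 52] := by decide +kernel

theorem gensA_In : ∀ g ∈ gensA, In (Subgroup.centralizer {gU}) g := by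
  obtain ⟨hnm, hl, hlw, hchk, -⟩ := stabA_ok
  intro g hg
  obtain ⟨k, hk, rfl⟩ := List.mem_iff_getElem.1 hg
  have h := List.all_eq_true.1 hchk k (List.mem_range.2 (hl ▸ hk))
  simp only [Bool.and_eq_true, Nat.blt_eq] at h
  obtain ⟨⟨⟨⟨⟨hlt, hS⟩, hI⟩, hJ⟩, hg'⟩, hw⟩ := h
  rw [List.getD_eq_getElem _ _ hk] at hg' hw
  have hga : Good gensA[k] := Nat.eq_of_beq_eq_true hw ▸ good_word _
  refine ⟨hga, ?_⟩
  obtain ⟨j, ni, hK, gni, e⟩ := pchn_sound pathU good_id goals_ok.2.2
  simp only [Bool.and_eq_true] at hK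
  obtain rfl := Nat.eq_of_beq_eq_true hK.2
  rw [Nat.eq_of_beq_eq_true hK.1, gNN_zero, el_id, inv_one, mul_one, one_mul, pathU_eq] at e
  rw [show (([83, 65, 52] : List ℕ).map tP).prod = gU by rw [gU_eq]; simp [mul_assoc]] at e
  obtain ⟨g1, -, -, g4, -⟩ := holdsN _ hlt
  have g4 := g4 hS
  rw [Nat.eq_of_beq_eq_true hI, Nat.eq_of_beq_eq_true hJ] at g4
  have hmU : Good mU := gni.inv hnm
  have ea : el gensA[k] = el niU * el (fM (getF stepsN (stabA.getD k 0))) * (el niU)⁻¹ := by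
    rw [← Nat.eq_of_beq_eq_true hg', el_mul (gni.mul g1) hmU, el_mul gni g1, el_inv gni hnm]
  have hconj : gU * el gensA[k] * gU⁻¹ ∈ XY := by
    have h1 := e.mul (el gensA[k])
    have h2 : Eqv XY (gN pathsN 3 * (el niU)⁻¹ * el gensA[k]) (gN pathsN 3 * (el niU)⁻¹) := by
      rw [ea]
      simp only [mul_assoc, inv_mul_cancel_left]
      have := g4.symm.mul (el niU)⁻¹
      simpa only [mul_assoc] using this
    exact (h1.trans h2).trans e.symm
  have haw : el gensA[k] = wordG (wordsA.getD k []) := by rw [← Nat.eq_of_beq_eq_true hw, el_word]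
  have hm := List.all_eq_true.1 stab_mats k (List.mem_range.2 (by rw [hlw, ← hl]; exact hk))
  have hsmall : (wordsA.getD k []).all (fun a => Nat.blt a 3) = true := by
    rcases getD_mem_or wordsA k [] with h | h
    · exact List.all_eq_true.1 (show wordsA.all (fun L => L.all fun a => Nat.blt a 3) = true by decide +kernel) _ h
    · rw [h]; rfl
  have hr := repM_eq_of hm
  rw [w4_append, w4_append, w4_small hsmall, ← haw, ← gU_word] at hr
  have hfix : gU * el gensA[k] * gU⁻¹ = el gensA[k] := by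
    refine XY_rep_inj hconj (by rw [haw]; exact wordG_mem _) ?_
    rw [repM_mul, hr, ← repM_mul, mul_inv_cancel_right]
  rw [Subgroup.mem_centralizer_singleton_iff]
  exact (mul_inv_eq_iff_eq_mul.1 hfix).symm

theorem eisA_In : ∀ v, In (Subgroup.centralizer {gU}) (eisA.getD v idP) :=
  (treeOK_sound gensA_In stabA_ok.2.2.2.2).2

theorem sxOK_sound {k m l : ℕ} (hm : Good m) (h : sxOK k m l = true) :
    k < 1771 ∧ l < 1771 ∧ uS l = (el m)⁻¹ * uS k * el m := by
  unfold sxOK at h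
  simp only [force_eq, Bool.and_eq_true, Nat.blt_eq] at h
  obtain ⟨hk, hl, hs⟩ := h
  refine ⟨hk, hl, ?_⟩
  obtain ⟨h1, -, -⟩ := sW_spec k hk
  obtain ⟨-, h2, e⟩ := sW_spec l hl
  have hmem := sift_mem eisA_In _ ((h1.1.mul hm).mul h2.1) hs
  rw [el_mul (h1.1.mul hm) h2.1, el_mul h1.1 hm, e, Subgroup.mem_centralizer_singleton_iff] at hmem
  simp only [uS]
  obtain ⟨a, ha⟩ : ∃ a, a = el (sW k) * el m * (el (sW l))⁻¹ := ⟨_, rfl⟩
  rw [← ha] at hmem
  have hq' : el (sW l) = a⁻¹ * el (sW k) * el m := by rw [ha]; group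
  calc (el (sW l))⁻¹ * gU * el (sW l) = (el m)⁻¹ * (el (sW k))⁻¹ * (a * gU * a⁻¹) * el (sW k) * el m := by
        rw [hq']; group
    _ = (el m)⁻¹ * ((el (sW k))⁻¹ * gU * el (sW k)) * el m := by rw [hmem]; group

theorem img_spec {k : ℕ} (hk : k < 1771) : uS (lk 12 sImg k) = gX⁻¹ * uS k * gX ∧ lk 12 sImg k < 1771 ∧
    uS (lk 12 sImg (1771 + k)) = gY⁻¹ * uS k * gY ∧ lk 12 sImg (1771 + k) < 1771 := by
  have h := allF_iff.1 imgs_ok k hk
  simp only [imgOK, Bool.and_eq_true] at h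
  obtain ⟨-, a, b⟩ := sxOK_sound (m := pX) ⟨_, pr_x⟩ h.1
  obtain ⟨-, c, d⟩ := sxOK_sound (m := pY) ⟨_, pr_y⟩ h.2
  exact ⟨by rw [b, pr_x.el_eq], a, by rw [d, pr_y.el_eq], c⟩

theorem seed_prod {k q0 q1 q2 : ℕ} (hk : k < 1771) (h0 : triOK 83 (sW k) q0 = true) (h1 : triOK 65 (sW k) q1 = true)
    (h2 : triOK 52 (sW k) q2 = true) : tP q0 * tP q1 * tP q2 = uS k := by
  obtain ⟨g, -, -⟩ := sW_spec k hk
  obtain ⟨-, -, e0⟩ := triOK_sound g.1 h0
  obtain ⟨-, -, e1⟩ := triOK_sound g.1 h1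
  obtain ⟨-, -, e2⟩ := triOK_sound g.1 h2
  rw [e0, e1, e2, uS, gU_eq]
  group

end CfsgLib.Sporadic.CosetCert.J4Index
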