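import Cfsg.Agent.Lib.Sporadic.J4Index.Check
import Cfsg.Agent.Lib.Sporadic.J4Index.Base
import Cfsg.Agent.Lib.Sporadic.J4Index.StepsN
import Cfsg.Agent.Lib.Sporadic.J4Index.SextetData
import Cfsg.Agent.Lib.Sporadic.J4Index.UniData
import Cfsg.Agent.Lib.Sporadic.J4Index.RepData

/-!
# Tests for the sextets, the paths and the matrices
-/

set_option autoImplicit false

namespace CfsgLib.Sporadic.CosetCert.J4Index

open OutCert BitMatrix

/-- The transversal of the sextets. -/
noncomputable def sW (k : ℕ) : ℕ := lk 120 sWn k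

/-- Its inverse. -/
noncomputable def sWi (k : ℕ) : ℕ := lk 120 sWin k

/-- An entry of the transversal comes from an earlier one. -/
noncomputable def sOK (p : ℕ) : Bool :=
  Nat.beq (pm (sW p) (sWi p)) idP &&
    (bif Nat.beq p 0 then Nat.beq (sW p) idP
    else Nat.blt (lk 16 sPar p / 2) p &&
      Nat.beq (pm (sW (lk 16 sPar p / 2)) (bif Nat.beq (lk 16 sPar p % 2) 0 then
        0x2dac7048354eb4b3ce54891181a57 else 0xbaab48846d799209120c395d698968)) (sW p))

/-- The permutation moves the sextet `k` to the sextet `l`. -/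
noncomputable def sxOK (k m l : ℕ) : Bool :=
  Nat.blt k 1771 && (Nat.blt l 1771 && force (sift eisA levsA) (pm (pm (sW k) m) (sWi l)))

/-- The images are right. -/
noncomputable def imgOK (k : ℕ) : Bool :=
  sxOK k 0x2dac7048354eb4b3ce54891181a57 (lk 12 sImg k) &&
    sxOK k 0xbaab48846d799209120c395d698968 (lk 12 sImg (1771 + k))

/-- Follow edges from the first node along trios. -/
noncomputable def pchn (F : List (List Fct)) (n : ℕ) : List (ℕ × ℕ) → ℕ → ℕ → (ℕ → ℕ → Bool) → Bool
  | [], j, ni, K => K j ni
  | (q, e) :: r, j, ni, K => Nat.blt e n && isEdge (getF F e) && Nat.beq (fI (getF F e)) j &&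
      triOK q ni (fP (getF F e)) &&
      force (fun n' => pchn F n r (fJ (getF F e)) n' K) (pm ni (fMi (getF F e)))

/-- The two products of a goal differ by an element of the subgroup. -/
noncomputable def goalOK (g : List (ℕ × ℕ) × List (ℕ × ℕ) × ℕ) : Bool :=
  pchn stepsN 329 g.1 0 idP fun a na => pchn stepsN 329 g.2.1 0 idP fun b nb => Nat.beq a b &&
    (bif Nat.beq g.2.2 0 then Nat.beq na nb
    else Nat.blt (g.2.2 - 1) 329 && isSame (getF stepsN (g.2.2 - 1)) &&
      Nat.beq (fI (getF stepsN (g.2.2 - 1))) a && Nat.beq (fJ (getF stepsN (g.2.2 - 1))) a &&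
      Nat.beq (pm nb (fM (getF stepsN (g.2.2 - 1)))) na)

/-- The first member of a line. -/
noncomputable def lA (k : ℕ) : ℕ := lk 64 lineData k % 2048
/-- The second member of a line. -/
noncomputable def lB (k : ℕ) : ℕ := lk 64 lineData k / 2048 % 2048
/-- The third member of a line. -/
noncomputable def lC (k : ℕ) : ℕ := lk 64 lineData k / 4194304 % 2048

/-- A line is the image of an earlier one. -/
noncomputable def lineOK (k : ℕ) : Bool :=
  force (fun c =>
    force (fun q => force (fun o => Nat.blt q k && Nat.blt (lA q) 1771 && Nat.blt (lB q) 1771 && Nat.blt (lC q) 1771 &&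
      Nat.beq (lk 12 sImg (o + lA q)) (lA k) && Nat.beq (lk 12 sImg (o + lB q)) (lB k) &&
        Nat.beq (lk 12 sImg (o + lC q)) (lC k)) (1771 * (c % 2))) (c / 2)) (lk 64 lineData k / 8589934592)

/-- The position in an order. -/
noncomputable def oPos (o v : ℕ) : ℕ := lk 32 o v % 4096

/-- The line used in an order. -/
noncomputable def oLine (o v : ℕ) : ℕ := lk 32 o v / 4096

/-- Two of three are earlier and the third is the member in question. -/
noncomputable def earlier (o v a b c : ℕ) : Bool :=
  Nat.beq c v && Nat.blt (oPos o a) (oPos o v) && Nat.blt (oPos o b) (oPos o v)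

/-- A member commutes with the first. -/
noncomputable def comOK (v : ℕ) : Bool :=
  Nat.beq v 0 || force (fun k => Nat.blt k nLines && force (fun a => force (fun b => force (fun c =>
    ((Nat.beq a 0 || Nat.beq b 0 || Nat.beq c 0) && (Nat.beq a v || Nat.beq b v || Nat.beq c v)) ||
      earlier comOrd v b c a || earlier comOrd v a c b || earlier comOrd v a b c)
      (lC k)) (lB k)) (lA k)) (oLine comOrd v)

/-- A member is generated by the eleven. -/
noncomputable def spanOK (v : ℕ) : Bool :=
  (basis.any fun b => Nat.beq b v) || force (fun k => Nat.blt k nLines && force (fun a => force (fun b => force (fun c =>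
    earlier spanOrd v b c a || earlier spanOrd v a c b || earlier spanOrd v a b c)
      (lC k)) (lB k)) (lA k)) (oLine spanOrd v)

/-- The inverse word. -/
def invL (w : List ℕ) : List ℕ := (w.map fun a => [0, 2, 1, 3].getD a a).reverse

/-- The word of `u`. -/
def uWord : List ℕ :=
  [1, 0, 1, 0, 2, 0, 2, 0, 2, 0, 2, 3, 1, 0, 1, 0, 1, 0, 1, 0, 2, 0] ++
  [1, 0, 1, 0, 2, 0, 2, 0, 2, 0, 2, 3, 1, 0, 1, 0, 1, 0, 1, 0, 2, 0] ++
  [1, 0, 1, 0, 2, 0, 2, 0, 2, 0, 2, 3, 1, 0, 1, 0, 1, 0, 1, 0, 2, 0]

/-- The word of the transversal element of a trio. -/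
def tWord (p : ℕ) : List ℕ := ((trioWords.find? fun e => e.1 == p).map Prod.snd).getD []

/-- The word of a product of conjugates of `t`. -/
def tsWord (ps : List ℕ) : List ℕ := ps.flatMap fun p => invL (tWord p) ++ [3] ++ tWord p

/-- The word of a conjugate of `u`. -/
def bWord (k : ℕ) : List ℕ := invL (wordsB.getD k []) ++ uWord ++ wordsB.getD k []

/-- The sum of the marked entries of a matrix, less the identity. -/
noncomputable def mark (ps : List (ℕ × ℕ)) (A : List ℕ) : Bool :=
  ps.foldr (fun e r => xor r (Nat.testBit (Nat.xor (A.getD e.1 0) (2 ^ e.1)) e.2)) false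

/-- The products along the program, packed, newest first. -/
noncomputable def runProg : List (ℕ × ℕ) → List ℕ → List ℕ
  | [], acc => acc
  | (i, j) :: r, acc =>
    J4Index.force (fun v => runProg r (acc ++ [v]))
      (mulP 112 (acc.getD i 0) (unpack 112 112 (acc.getD j 0)))

end CfsgLib.Sporadic.CosetCert.J4Index
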