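import Cfsg.Agent.Lib.Sporadic.J4Index.Bases
import Cfsg.Agent.Lib.Sporadic.J4Index.RepDefs

/-!
# Words in four letters and their matrices
-/

set_option autoImplicit false
set_option maxRecDepth 100000

namespace CfsgLib.Sporadic.CosetCert.J4Index

open OutCert BitMatrix Cfsg Cfsg.Spor J4M24

attribute [local irreducible] pm idP lk sift wT wTi hE hEi BitMatrix.mulP BitMatrix.ok BitMatrix.one isOne dec

/-- The matrices of degree 112 of an element. -/
noncomputable def repM (g : J4P) : J4Rep.M112 := (J4Rep.rep g).val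

/-- A letter of four. -/
noncomputable def g4 (a : ℕ) : J4P := [gX, gY, gY⁻¹, gT].getD a 1

/-- The element of a word in four letters. -/
noncomputable def w4 (L : List ℕ) : J4P := (L.map g4).prod

theorem w4_append (L M : List ℕ) : w4 (L ++ M) = w4 L * w4 M := by simp [w4]

theorem repM_mul (a b : J4P) : repM (a * b) = repM a * repM b := by simp [repM]

theorem repM_one : repM 1 = 1 := by simp [repM]

theorem repM_g4 (a : ℕ) : repM (g4 a) = dec 112 (J4Rep.lett a) := by
  rw [← J4Rep.gJ_val, repM]
  congr 1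
  unfold g4 J4Rep.gJ
  by_cases ha : a < 4
  · interval_cases a <;>
      simp only [List.getD_cons_zero, List.getD_cons_succ, map_inv, gX, gY, gT, J4Rep.rep, PresentedGroup.toGroup.of]
  · rw [List.getD_eq_default _ _ (by simpa using ha), List.getD_eq_default _ _ (by simpa using ha), map_one]

theorem repM_w4 (L : List ℕ) : repM (w4 L) = ((mats L).map (dec 112)).prod := by
  induction L with
  | nil => exact repM_one
  | cons a r ih =>
    rw [show w4 (a :: r) = g4 a * w4 r from rfl, repM_mul, ih, repM_g4]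
    rfl

theorem mats_ok (L : List ℕ) : ∀ B ∈ mats L, ok 112 B = true := by
  intro B hB
  obtain ⟨k, -, rfl⟩ := List.mem_map.1 hB
  exact J4Rep.ok_lett k

theorem eqProd_spec {L M : List (List ℕ)} (hL : ∀ B ∈ L, ok 112 B = true) (hM : ∀ B ∈ M, ok 112 B = true)
    (h : eqProd L M = true) : (L.map (dec 112)).prod = (M.map (dec 112)).prod := by
  simp only [eqProd, force_eq, Nat.beq_eq] at h
  have h0 : BitMatrix.Good 112 (pack 112 (one 112)) 1 :=
    ⟨one 112, (ok_iff.1 ok_one).1, one_lt, rfl, dec_one⟩
  obtain ⟨A, hAl, hA, hP, hd⟩ := BitMatrix.Good.prodP L hL h0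
  obtain ⟨B, hBl, hB, hQ, he⟩ := BitMatrix.Good.prodP M hM h0
  rw [one_mul] at hd he
  have : A = B := by
    have u1 := unpack_pack A hA
    have u2 := unpack_pack B hB
    rw [hAl, ← hP, h, hQ] at u1
    rw [hBl] at u2
    exact u1.symm.trans u2
  rw [← hd, ← he, this]

theorem repM_eq_of {L M : List ℕ} (h : eqProd (mats L) (mats M) = true) : repM (w4 L) = repM (w4 M) := by
  rw [repM_w4, repM_w4]
  exact eqProd_spec (mats_ok L) (mats_ok M) h

theorem g4_inv {a : ℕ} : g4 ([0, 2, 1, 3].getD a a) = (g4 a)⁻¹ := by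
  by_cases ha : a < 4
  · interval_cases a <;> simp only [g4, List.getD_cons_zero, List.getD_cons_succ, inv_inv]
    · exact (inv_eq_of_mul_eq_one_right (by rw [← pow_two]; exact rels.1)).symm
    · exact gT_inv.symm
  · rw [List.getD_eq_default _ _ (by simpa using ha)]
    simp only [g4, List.getD_eq_default _ _ (show [gX, gY, gY⁻¹, gT].length ≤ a by simpa using ha), inv_one]

theorem w4_invL (L : List ℕ) : w4 (invL L) = (w4 L)⁻¹ := by
  induction L with
  | nil => simp [w4, invL]
  | cons a r ih =>
    rw [show invL (a :: r) = invL r ++ [[0, 2, 1, 3].getD a a] by simp [invL], w4_append, ih,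
      show w4 (a :: r) = g4 a * w4 r from rfl, mul_inv_rev]
    congr 1
    rw [show w4 [[0, 2, 1, 3].getD a a] = g4 ([0, 2, 1, 3].getD a a) from mul_one _, g4_inv]

theorem w4_small {L : List ℕ} (h : L.all (fun a => Nat.blt a 3) = true) : w4 L = wordG L := by
  induction L with
  | nil => rfl
  | cons a r ih =>
    simp only [List.all_cons, Bool.and_eq_true, Nat.blt_eq] at h
    rw [show w4 (a :: r) = g4 a * w4 r from rfl, ih h.2, wordG]
    obtain ⟨h1, -⟩ := h
    congr 1
    interval_cases a <;> rfl

theorem wordG_mem (L : List ℕ) : wordG L ∈ XY := by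
  induction L with
  | nil => exact one_mem _
  | cons a r ih =>
    refine mul_mem ?_ ih
    rcases getD_mem_or [gX, gY, gY⁻¹] a 1 with h | h
    · simp only [List.mem_cons, List.not_mem_nil, or_false] at h
      rcases h with h | h | h <;> rw [h]
      · exact Subgroup.subset_closure (by simp)
      · exact Subgroup.subset_closure (by simp)
      · exact inv_mem (Subgroup.subset_closure (by simp))
    · rw [h]; exact one_mem _

/-- An element of `⟨x, y⟩` is determined by its matrix. -/
theorem XY_rep_inj {a b : J4P} (ha : a ∈ XY) (hb : b ∈ XY) (h : repM a = repM b) : a = b := by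
  have hm : ∀ c ∈ XY, ∃ g : M24, (c, g) ∈ pairs := by
    intro c hc
    induction hc using Subgroup.closure_induction with
    | mem c hc =>
      rcases hc with rfl | rfl
      · exact ⟨_, sBoth_mem 0⟩
      · exact ⟨_, sBoth_mem 1⟩
    | one => exact ⟨1, one_mem _⟩
    | mul x y _ _ hx hy =>
      obtain ⟨g, hg⟩ := hx
      obtain ⟨g', hg'⟩ := hy
      exact ⟨g * g', mul_mem hg hg'⟩
    | inv x _ hx =>
      obtain ⟨g, hg⟩ := hx
      exact ⟨g⁻¹, inv_mem hg⟩
  obtain ⟨g, hg⟩ := hm _ (mul_mem (inv_mem ha) hb)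
  have h1 : J4Rep.rep (a⁻¹ * b) = 1 := by rw [map_mul, map_inv, show J4Rep.rep a = J4Rep.rep b from Units.ext h, inv_mul_cancel]
  have h2 := pairs_rep ⟨_, hg⟩ h1
  simp only at h2
  subst h2
  have := pairs_bij.1 (a₁ := (⟨(a⁻¹ * b, 1), hg⟩ : pairs)) (a₂ := (1 : pairs)) rfl
  exact inv_mul_eq_one.1 (congrArg (fun z : pairs => (z : J4P × M24).1) this)

end CfsgLib.Sporadic.CosetCert.J4Index
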